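import Groth.Agent.WeakEt.StrictHens
import Groth.Agent.Hensel.HenselizationProps
import Groth.Agent.Hensel.HenselizationNoeth
import Groth.Agent.Hensel.HenselizationNormal
import Mathlib

/-!
# The henselised affine line and power series
-/

set_option autoImplicit false
set_option linter.style.haveILetI false
set_option backward.isDefEq.respectTransparency false

universe u

open IsLocalRing
open scoped TensorProduct

namespace Groth.Agent.TauTriv

theorem isStrictHenselization_of_isSepClosed (R S : Type u) [CommRing R] [IsLocalRing R] [CommRing S] [IsLocalRing S]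
    [Algebra R S] [IsLocalHom (algebraMap R S)] [hS : _root_.Hensel.IsHenselization R S]
    [IsSepClosed (ResidueField R)] : _root_.Hensel.IsStrictHenselization R S := by
  haveI := hS.henselian
  have hb := Hensel.henselization_residue_bijective R S
  let e : ResidueField R ≃+* ResidueField S := RingEquiv.ofBijective _ hb
  refine ⟨hS.henselian, ⟨Hensel.isSepClosed_of_ringEquiv e, ⟨fun x => ?_⟩⟩, fun T _ _ f hf τ hτ => ?_⟩
  · obtain ⟨y, rfl⟩ := hb.2 x
    show IsSeparable (ResidueField R) (algebraMap (ResidueField R) (ResidueField S) y)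
    exact isSeparable_algebraMap y
  obtain ⟨g, hg, hgu⟩ := hS.universal T f hf
  refine ⟨g, ⟨hg, fun x => ?_⟩, fun g' hg' => hgu g' hg'.1⟩
  obtain ⟨y, hy⟩ := Hensel.henselization_exists_sub_mem R S x
  have hx : residue S x = residue S (algebraMap R S y) := (Ideal.Quotient.mk_eq_mk_iff_sub_mem _ _).2 hy
  haveI : IsLocalHom g := by
    refine ⟨fun a ha => ?_⟩
    by_contra hna
    obtain ⟨r, hr⟩ := Hensel.henselization_exists_sub_mem R S a
    have hram : r ∈ maximalIdeal R := by
      rw [mem_maximalIdeal, mem_nonunits_iff]
      intro hu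
      have h1 : algebraMap R S r ∈ maximalIdeal S := by
        have h2 : a ∈ maximalIdeal S := hna
        simpa using Ideal.sub_mem _ h2 hr
      exact h1 (hu.map _)
    have hma : a - algebraMap R S r ∈ (maximalIdeal R).map (algebraMap R S) := by
      rwa [Hensel.henselization_map_maximalIdeal]
    have h3 : g (a - algebraMap R S r) ∈ maximalIdeal T := by
      have h4 := Ideal.mem_map_of_mem g hma
      rw [Ideal.map_map, hg] at h4
      refine (?_ : (maximalIdeal R).map f ≤ maximalIdeal T) h4
      exact Ideal.map_le_iff_le_comap.2 fun m hm => map_nonunit f m hm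
    have h5 : f r ∈ maximalIdeal T := map_nonunit f r hram
    rw [map_sub, show g (algebraMap R S r) = f r from RingHom.congr_fun hg r] at h3
    exact (by simpa using Ideal.add_mem _ h3 h5 : g a ∈ maximalIdeal T) ha
  have h6 : residue T (g x) = residue T (g (algebraMap R S y)) := by
    have := congrArg (ResidueField.map g) hx
    rwa [ResidueField.map_residue, ResidueField.map_residue] at this
  rw [h6, show g (algebraMap R S y) = f y from RingHom.congr_fun hg y, hx]
  have := RingHom.congr_fun hτ (residue R y)
  rw [RingHom.comp_apply, ResidueField.map_residue, ResidueField.map_residue] at this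
  exact this.symm

theorem henselianLocalRing_powerSeries (A : Type u) [CommRing A] [HenselianLocalRing A] :
    HenselianLocalRing (PowerSeries A) := by
  haveI : HenselianRing (PowerSeries A) (Ideal.span {PowerSeries.X}) := inferInstance
  refine HenselianLocalRing.mk fun f hf a₀ h₁ h₂ => ?_
  let c : PowerSeries A →+* A := PowerSeries.constantCoeff
  have hc : ∀ x, IsUnit x ↔ IsUnit (c x) := fun x => PowerSeries.isUnit_iff_constantCoeff
  obtain ⟨a, ha, had⟩ := HenselianLocalRing.is_henselian (f.map c) (hf.map c) (c a₀)
    (by
      rw [mem_maximalIdeal, mem_nonunits_iff, Polynomial.eval_map, Polynomial.eval₂_at_apply, ← hc]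
      exact h₁)
    (by
      rw [Polynomial.derivative_map, Polynomial.eval_map, Polynomial.eval₂_at_apply, ← hc]
      exact h₂)
  have hd : IsUnit (f.derivative.eval (PowerSeries.C a)) := by
    rw [hc]
    have h3 : c (f.derivative.eval (PowerSeries.C a)) - c (f.derivative.eval a₀) ∈ maximalIdeal A := by
      rw [← Polynomial.eval₂_at_apply, ← Polynomial.eval₂_at_apply, ← Polynomial.eval_map, ← Polynomial.eval_map,
        PowerSeries.constantCoeff_C]
      exact Ideal.mem_of_dvd _ ((f.derivative.map c).sub_dvd_eval_sub a (c a₀)) had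
    by_contra hu
    exact ((hc _).1 h₂) |> fun h4 => (show c (f.derivative.eval a₀) ∈ maximalIdeal A by
      simpa using Ideal.sub_mem _ (show c (f.derivative.eval (PowerSeries.C a)) ∈ maximalIdeal A from hu) h3) h4
  obtain ⟨x, hx, hxa⟩ := HenselianRing.is_henselian f hf (PowerSeries.C a)
    (by
      rw [Ideal.mem_span_singleton, PowerSeries.X_dvd_iff]
      show c _ = 0
      rw [← Polynomial.eval₂_at_apply, ← Polynomial.eval_map, PowerSeries.constantCoeff_C]
      exact ha)
    (hd.map (Ideal.Quotient.mk _))
  refine ⟨x, hx, ?_⟩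
  rw [mem_maximalIdeal, mem_nonunits_iff, hc, map_sub]
  rw [Ideal.mem_span_singleton, PowerSeries.X_dvd_iff, map_sub, PowerSeries.constantCoeff_C, sub_eq_zero] at hxa
  rw [show c x = a from hxa]
  exact had

theorem flat_toPowerSeries (A : Type u) [CommRing A] [IsNoetherianRing A] :
    (Polynomial.coeToPowerSeries.ringHom : Polynomial A →+* PowerSeries A).Flat := by
  have h1 : (algebraMap (MvPolynomial Unit A) (MvPowerSeries Unit A)).Flat := by
    haveI : IsNoetherianRing (MvPolynomial Unit A) := inferInstance
    exact RingHom.flat_algebraMap_iff.2 (Module.Flat.of_linearEquiv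
      (MvPowerSeries.toAdicCompletionAlgEquiv Unit A).toLinearEquiv)
  have h2 := RingHom.Flat.comp (RingHom.Flat.of_bijective
    (f := (MvPolynomial.pUnitAlgEquiv.{u, 0} A).symm.toRingEquiv.toRingHom)
    (MvPolynomial.pUnitAlgEquiv.{u, 0} A).symm.bijective) h1
  convert h2 using 1
  refine Polynomial.ringHom_ext (fun a => ?_) ?_
  · rw [RingHom.comp_apply]
    simp [Polynomial.coeToPowerSeries.ringHom_apply, MvPowerSeries.algebraMap_apply', PowerSeries.C]
  · rw [RingHom.comp_apply]
    simp [Polynomial.coeToPowerSeries.ringHom_apply, MvPowerSeries.algebraMap_apply', PowerSeries.X]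

theorem flat_of_weaklyEtale_cancel (A B C : Type u) [CommRing A] [CommRing B] [CommRing C] [Algebra A B]
    [Algebra B C] [Algebra A C] [IsScalarTower A B C] [Algebra.WeaklyEtale A B] [Module.Flat A C] :
    Module.Flat B C := by
  have h1 : (Algebra.TensorProduct.includeLeft : B →ₐ[A] B ⊗[A] C).toRingHom.Flat :=
    RingHom.flat_algebraMap_iff.2 (inferInstance : Module.Flat B (B ⊗[A] C))
  have h2 := RingHom.Flat.mapOfCompatibleSMul (R := A) (S := B) B C
    (Algebra.WeaklyEtale.flat_lmul' A B)
  have h3 := RingHom.Flat.comp h1 h2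
  let e := Algebra.TensorProduct.lid B C
  have h4 := RingHom.Flat.comp h3 (RingHom.Flat.of_bijective e.bijective)
  rw [← RingHom.flat_algebraMap_iff]
  convert h4 using 1
  refine RingHom.ext fun b => ?_
  simp [e, Algebra.smul_def]

end Groth.Agent.TauTriv
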