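import Groth.Agent.TauTriv.Trace
import Groth.Agent.ShSplit.Punctured
import Mathlib

/-!
# Algebra models of finite étale covers over affine test schemes
-/

set_option autoImplicit false
set_option linter.style.haveILetI false
set_option backward.isDefEq.respectTransparency false
set_option synthInstance.maxHeartbeats 400000
set_option maxHeartbeats 2000000

universe u

open CategoryTheory CategoryTheory.Limits AlgebraicGeometry
open scoped TensorProduct

namespace Groth.Agent.TauTriv

/-- Pullback of a finite étale morphism to an affine scheme. -/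
theorem exists_model {X W : Scheme.{u}} (f : W ⟶ X) [IsFinite f] [Etale f] (T : Type u) [CommRing T]
    (g : Spec (CommRingCat.of T) ⟶ X) :
    ∃ (B : Type u) (_ : CommRing B) (_ : Algebra T B) (a : Spec (CommRingCat.of B) ⟶ W),
      Algebra.Etale T B ∧ Module.Finite T B ∧ IsPullback a (Spec.map (CommRingCat.ofHom (algebraMap T B))) f g := by
  let P := pullback f g
  haveI : IsFinite (pullback.snd f g) := MorphismProperty.pullback_snd (P := @IsFinite) _ _ ‹_›
  haveI : Etale (pullback.snd f g) := MorphismProperty.pullback_snd (P := @Etale) _ _ ‹_›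
  haveI : IsAffine P := isAffine_of_isAffineHom (pullback.snd f g)
  let φ := Spec.preimage (P.isoSpec.inv ≫ pullback.snd f g)
  letI : Algebra T Γ(P, ⊤) := φ.hom.toAlgebra
  have hφ : Spec.map (CommRingCat.ofHom (algebraMap T Γ(P, ⊤))) = P.isoSpec.inv ≫ pullback.snd f g :=
    Spec.map_preimage _
  refine ⟨Γ(P, ⊤), inferInstance, inferInstance, P.isoSpec.inv ≫ pullback.fst f g, ?_, ?_, ?_⟩
  · exact RingHom.etale_algebraMap.1 ((HasRingHomProperty.Spec_iff (P := @Etale)).1
      (show Etale (Spec.map (CommRingCat.ofHom (algebraMap T Γ(P, ⊤)))) by rw [hφ]; infer_instance))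
  · exact RingHom.finite_algebraMap.1 ((IsFinite.SpecMap_iff _).1
      (show IsFinite (Spec.map (CommRingCat.ofHom (algebraMap T Γ(P, ⊤)))) by rw [hφ]; infer_instance))
  · rw [hφ]
    exact (IsPullback.of_hasPullback f g).of_iso P.isoSpec (Iso.refl _) (Iso.refl _) (Iso.refl _)
      (by simp) (by simp) (by simp) (by simp)

/-- Models of the same pullback are isomorphic algebras. -/
theorem nonempty_algEquiv_of_isPullback {X W : Scheme.{u}} {f : W ⟶ X} {T : Type u} [CommRing T]
    {g : Spec (CommRingCat.of T) ⟶ X} {B₁ B₂ : Type u} [CommRing B₁] [Algebra T B₁] [CommRing B₂] [Algebra T B₂]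
    {a₁ : Spec (CommRingCat.of B₁) ⟶ W} {a₂ : Spec (CommRingCat.of B₂) ⟶ W}
    (h₁ : IsPullback a₁ (Spec.map (CommRingCat.ofHom (algebraMap T B₁))) f g)
    (h₂ : IsPullback a₂ (Spec.map (CommRingCat.ofHom (algebraMap T B₂))) f g) :
    Nonempty (B₁ ≃ₐ[T] B₂) := by
  let e := h₂.isoIsPullback _ _ h₁
  let φ := Spec.preimage e.hom
  haveI : IsIso (Spec.map φ) := by rw [Spec.map_preimage]; infer_instance
  haveI : IsIso φ := by
    haveI : IsIso (Scheme.Spec.map φ.op) := inferInstanceAs (IsIso (Spec.map φ))
    haveI : IsIso φ.op := isIso_of_reflects_iso φ.op Scheme.Spec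
    exact isIso_of_op φ
  have h : CommRingCat.ofHom (algebraMap T B₁) ≫ φ = CommRingCat.ofHom (algebraMap T B₂) := Spec.map_injective (by
    rw [Spec.map_comp, Spec.map_preimage]
    exact IsPullback.isoIsPullback_hom_snd _ _ _ _)
  exact ⟨AlgEquiv.ofBijective
    ({ φ.hom with commutes' := fun t => RingHom.congr_fun (congrArg CommRingCat.Hom.hom h) t } : B₁ →ₐ[T] B₂)
    ((ConcreteCategory.isIso_iff_bijective φ).1 inferInstance)⟩

/-- Base change of a model. -/
theorem exists_baseChange_model {X W : Scheme.{u}} {f : W ⟶ X} {T : Type u} [CommRing T]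
    {g : Spec (CommRingCat.of T) ⟶ X} {B : Type u} [CommRing B] [Algebra T B]
    {a : Spec (CommRingCat.of B) ⟶ W} (h : IsPullback a (Spec.map (CommRingCat.ofHom (algebraMap T B))) f g)
    (T' : Type u) [CommRing T'] [Algebra T T'] :
    ∃ a' : Spec (CommRingCat.of (T' ⊗[T] B)) ⟶ W,
      IsPullback a' (Spec.map (CommRingCat.ofHom (algebraMap T' (T' ⊗[T] B)))) f
        (Spec.map (CommRingCat.ofHom (algebraMap T T')) ≫ g) :=
  ⟨_, (isPullback_SpecMap_of_isPushout _ _ _ _ (CommRingCat.isPushout_tensorProduct T T' B)).flip.paste_horiz h⟩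

/-- The trivial cover as a model. -/
theorem exists_trivial_model {X : Scheme.{u}} (n : ℕ) (T : Type u) [CommRing T] (g : Spec (CommRingCat.of T) ⟶ X) :
    ∃ a : Spec (CommRingCat.of (ULift.{u} (Fin n) → T)) ⟶ ∐ fun _ : Fin n => X,
      IsPullback a (Spec.map (CommRingCat.ofHom (algebraMap T (ULift.{u} (Fin n) → T))))
        (Limits.Sigma.desc fun _ : Fin n => 𝟙 X) g := by
  obtain ⟨q, hq⟩ := ShSplit.exists_isPullback_sigma g (ULift.{u} (Fin n))
  let r : (∐ fun _ : ULift.{u} (Fin n) => X) ≅ ∐ fun _ : Fin n => X :=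
    Limits.Sigma.reindex Equiv.ulift (fun _ : Fin n => X)
  have hr : r.hom ≫ (Limits.Sigma.desc fun _ : Fin n => 𝟙 X) = Limits.Sigma.desc fun _ => 𝟙 X :=
    Limits.Sigma.hom_ext _ _ fun i => by
      rw [Limits.Sigma.ι_desc]
      exact (congrArg (· ≫ (Limits.Sigma.desc fun _ : Fin n => 𝟙 X))
        (Limits.Sigma.ι_reindex_hom Equiv.ulift (fun _ : Fin n => X) i)).trans (Limits.Sigma.ι_desc _ _) |> fun h =>
          (Category.assoc _ _ _).symm.trans h
  let s := sigmaSpec (fun _ : ULift.{u} (Fin n) => CommRingCat.of T)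
  haveI : IsIso s := inferInstance
  have hs : s ≫ Spec.map (CommRingCat.ofHom (algebraMap T (ULift.{u} (Fin n) → T))) =
      Limits.Sigma.desc fun _ => 𝟙 _ := Limits.Sigma.hom_ext _ _ fun i => by
    rw [← Category.assoc, ι_sigmaSpec, Limits.Sigma.ι_desc, ← Spec.map_comp, ← Spec.map_id]
    rfl
  refine ⟨inv s ≫ q ≫ r.hom, hq.of_iso (asIso s) r (Iso.refl _) (Iso.refl _) (by simp) ?_ (by simp [hr]) (by simp)⟩
  simp [hs]

variable {R : Type u} [CommRing R] [IsDomain R] [IsIntegrallyClosed R] (K : Type u) [Field K] [Algebra R K] [IsFractionRing R K]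
  (E : Type u) [CommRing E] [Algebra K E] [Algebra R E] [IsScalarTower R K E]

include K in
/-- A finite étale model over a localization is the localised integral closure. -/
theorem exists_equiv_of_model (Q : Ideal R) [Q.IsPrime] [Algebra (Localization.AtPrime Q) K]
    [IsScalarTower R (Localization.AtPrime Q) K]
    (B : Type u) [CommRing B] [Algebra (Localization.AtPrime Q) B] [Algebra.Etale (Localization.AtPrime Q) B]
    [Module.Finite (Localization.AtPrime Q) B]
    (e : K ⊗[Localization.AtPrime Q] B ≃ₐ[K] E) :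
    Nonempty ((Localization.AtPrime Q ⊗[R] integralClosure R E) ≃ₐ[Localization.AtPrime Q] B) := by
  let T := Localization.AtPrime Q
  let C := integralClosure R E
  letI : Algebra T E := ((algebraMap K E).comp (algebraMap T K)).toAlgebra
  haveI : IsScalarTower T K E := IsScalarTower.of_algebraMap_eq fun _ => rfl
  haveI : IsScalarTower R T E := IsScalarTower.of_algebraMap_eq fun x => by
    show _ = algebraMap K E (algebraMap T K (algebraMap R T x))
    rw [← IsScalarTower.algebraMap_apply R T K, ← IsScalarTower.algebraMap_apply R K E]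
  haveI : IsIntegrallyClosed T :=
    isIntegrallyClosed_of_isLocalization T Q.primeCompl Q.primeCompl_le_nonZeroDivisors
  haveI : IsFractionRing T K := IsFractionRing.isFractionRing_of_isDomain_of_isLocalization Q.primeCompl T K
  let ψ : B →ₐ[T] E := (e.toAlgHom.restrictScalars T).comp Algebra.TensorProduct.includeRight
  have hψinj : Function.Injective ψ := e.injective.comp
    (Algebra.TensorProduct.includeRight_injective (IsFractionRing.injective T K))
  have hψ : ∀ x : E, IsIntegral T x → x ∈ Set.range ψ := by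
    intro x hx
    have h1 : IsIntegral T ((Algebra.TensorProduct.comm T K B) (e.symm x)) :=
      (hx.map (e.symm.toAlgHom.restrictScalars T)).map (Algebra.TensorProduct.comm T K B).toAlgHom
    obtain ⟨z, hz⟩ := (TensorProduct.toIntegralClosure_bijective_of_smooth (R := T) (S := B) (B := K)).2 ⟨_, h1.tower_top⟩
    have key : ∀ z : B ⊗[T] integralClosure T K, ∃ b : B,
        Algebra.TensorProduct.map (AlgHom.id T B) (integralClosure T K).val z = b ⊗ₜ[T] (1 : K) := by
      intro z
      induction z using TensorProduct.induction_on with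
      | zero => exact ⟨0, by simp⟩
      | tmul b c =>
        obtain ⟨t, ht⟩ := IsIntegrallyClosed.isIntegral_iff.1 c.2
        refine ⟨t • b, ?_⟩
        rw [Algebra.TensorProduct.map_tmul, TensorProduct.smul_tmul, ← Algebra.algebraMap_eq_smul_one, ht]
        rfl
      | add y w hy hw =>
        obtain ⟨b, hb⟩ := hy
        obtain ⟨b', hb'⟩ := hw
        exact ⟨b + b', by rw [map_add, hb, hb', TensorProduct.add_tmul]⟩
    obtain ⟨b, hb⟩ := key z
    refine ⟨b, ?_⟩
    have h2 : (Algebra.TensorProduct.comm T K B) (e.symm x) = b ⊗ₜ[T] (1 : K) := by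
      rw [← hb]; exact (congrArg Subtype.val hz).symm
    show e ((1 : K) ⊗ₜ[T] b) = x
    rw [← AlgEquiv.eq_symm_apply]
    exact ((Algebra.TensorProduct.comm T K B).injective (h2.trans (by simp))).symm
  have hψint : ∀ b, IsIntegral T (ψ b) := fun b => (IsIntegral.of_finite T b).map ψ
  haveI : Module.Flat R T := IsLocalization.flat T Q.primeCompl
  haveI : TensorProduct.CompatibleSMul R T T E :=
    IsLocalization.tensorProduct_compatibleSMul Q.primeCompl T T E
  let θ : T ⊗[R] E ≃ₗ[T] E :=
    (Algebra.TensorProduct.equivOfCompatibleSMul R T T T E).symm.toLinearEquiv.trans (TensorProduct.lid T E)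
  have hevinj : Function.Injective (evT (R := R) E T) := by
    have : ⇑(evT (R := R) E T) = θ ∘ (LinearMap.lTensor T C.val.toLinearMap) := by
      funext z
      induction z using TensorProduct.induction_on with
      | zero => simp
      | tmul t c =>
        have h1 : (Algebra.TensorProduct.equivOfCompatibleSMul R T T T E).symm (t ⊗ₜ[R] (c : E)) = t ⊗ₜ[T] (c : E) :=
          (Algebra.TensorProduct.equivOfCompatibleSMul R T T T E).injective (by rw [AlgEquiv.apply_symm_apply]; rfl)
        simp [evT_tmul, θ, h1, Algebra.smul_def, C]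
      | add y w hy hw => simp [hy, hw]
    rw [this]
    exact θ.injective.comp (Module.Flat.lTensor_preserves_injective_linearMap _ Subtype.val_injective)
  have hevrange : ∀ z, evT (R := R) E T z ∈ ψ.range := by
    intro z
    induction z using TensorProduct.induction_on with
    | zero => exact ⟨0, map_zero ψ⟩
    | tmul t c =>
      rw [evT_tmul]
      exact ψ.range.mul_mem ⟨algebraMap T B t, ψ.commutes t⟩ (hψ _ c.2.tower_top)
    | add y w hy hw => rw [map_add]; exact ψ.range.add_mem hy hw
  let Ψ : T ⊗[R] C →ₐ[T] B :=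
    (AlgEquiv.ofInjective ψ hψinj).symm.toAlgHom.comp ((evT (R := R) E T).codRestrict ψ.range hevrange)
  have hΨ : ∀ z, ψ (Ψ z) = evT (R := R) E T z := fun z => congrArg Subtype.val
    ((AlgEquiv.ofInjective ψ hψinj).apply_symm_apply ((evT (R := R) E T).codRestrict ψ.range hevrange z))
  have hbij : Function.Bijective Ψ := by
    refine ⟨fun x y h => hevinj (by rw [← hΨ, ← hΨ, h]), fun b => ?_⟩
    obtain ⟨⟨s, hs⟩, hsx⟩ := (hψint b).exists_multiple_integral_of_isLocalization Q.primeCompl
    obtain ⟨u, hu⟩ := IsLocalization.map_units T (⟨s, hs⟩ : Q.primeCompl)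
    refine ⟨(↑u⁻¹ : T) ⊗ₜ (⟨_, hsx⟩ : C), hψinj ?_⟩
    rw [hΨ, evT_tmul]
    show algebraMap T E (↑u⁻¹ : T) * ((⟨s, hs⟩ : Q.primeCompl) • ψ b) = ψ b
    rw [Submonoid.smul_def, Algebra.smul_def, IsScalarTower.algebraMap_apply R T E, ← hu, ← mul_assoc, ← map_mul,
      Units.inv_mul, map_one, one_mul]
  exact ⟨AlgEquiv.ofBijective Ψ hbij⟩

include K in
/-- A finite étale model over a localization makes the prime good. -/
theorem good_of_model (Q : Ideal R) [Q.IsPrime] [Algebra (Localization.AtPrime Q) K]
    [IsScalarTower R (Localization.AtPrime Q) K]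
    (B : Type u) [CommRing B] [Algebra (Localization.AtPrime Q) B] [Algebra.Etale (Localization.AtPrime Q) B]
    [Module.Finite (Localization.AtPrime Q) B]
    (e : K ⊗[Localization.AtPrime Q] B ≃ₐ[K] E) : Good E Q := by
  obtain ⟨Φ⟩ := exists_equiv_of_model K E Q B e
  exact ⟨Algebra.Etale.of_equiv Φ.symm, Module.Finite.equiv Φ.symm.toLinearEquiv⟩

end Groth.Agent.TauTriv
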