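import Groth.Agent.TauTriv.Trace
import Groth.Agent.Hensel.Etale

/-!
# Lifting sections of an integral closure at a good prime
-/

set_option autoImplicit false
set_option linter.style.haveILetI false
set_option backward.isDefEq.respectTransparency false
set_option synthInstance.maxHeartbeats 400000
set_option maxHeartbeats 2000000

universe u

open scoped TensorProduct

namespace Groth.Agent.TauTriv

variable {R : Type u} [CommRing R] [IsDomain R] {E : Type u} [CommRing E] [Algebra R E]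

theorem existsUnique_lift {Q : Ideal R} [Q.IsPrime] (hQ : Good E Q) (T : Type u) [CommRing T] [Algebra R T]
    (I : Ideal T) [HenselianRing T I] (hQT : ∀ s : R, s ∉ Q → IsUnit (algebraMap R T s))
    (σ : integralClosure R E →ₐ[R] T ⧸ I) :
    ∃! τ : integralClosure R E →ₐ[R] T, ∀ c, Ideal.Quotient.mk I (τ c) = σ c := by
  let C := integralClosure R E
  let RQ := Localization.AtPrime Q
  obtain ⟨het, hfin⟩ := hQ
  let g : RQ →+* T := IsLocalization.lift (M := Q.primeCompl) (g := algebraMap R T) fun y => hQT y y.2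
  letI : Algebra RQ T := g.toAlgebra
  haveI : IsScalarTower R RQ T := IsScalarTower.of_algebraMap_eq fun x => (IsLocalization.lift_eq _ x).symm
  haveI : IsScalarTower R RQ (T ⧸ I) := IsScalarTower.of_algebraMap_eq fun x => by
    show Ideal.Quotient.mk I (algebraMap R T x) = Ideal.Quotient.mk I (algebraMap RQ T (algebraMap R RQ x))
    rw [← IsScalarTower.algebraMap_apply]
  let σ₁ : RQ ⊗[R] C →ₐ[RQ] T ⧸ I := Algebra.TensorProduct.lift (Algebra.ofId RQ (T ⧸ I)) σ (fun _ _ => Commute.all _ _)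
  let σ₀ : T ⊗[RQ] (RQ ⊗[R] C) →ₐ[T] T ⧸ I :=
    Algebra.TensorProduct.lift (Algebra.ofId T (T ⧸ I)) σ₁ (fun _ _ => Commute.all _ _)
  haveI : Algebra.Etale T (T ⊗[RQ] (RQ ⊗[R] C)) := inferInstance
  obtain ⟨τ₀, hτ₀, -⟩ := Hensel.existsUnique_algHom_lift (I := I) (E := T ⊗[RQ] (RQ ⊗[R] C)) σ₀
  let j : C →ₐ[R] T ⊗[RQ] (RQ ⊗[R] C) :=
    ((Algebra.TensorProduct.includeRight : RQ ⊗[R] C →ₐ[RQ] T ⊗[RQ] (RQ ⊗[R] C)).restrictScalars R).comp
      Algebra.TensorProduct.includeRight
  refine ⟨(τ₀.restrictScalars R).comp j, fun c => ?_, fun τ hτ => ?_⟩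
  · show Ideal.Quotient.mk I (τ₀ ((1 : T) ⊗ₜ ((1 : RQ) ⊗ₜ c))) = σ c
    rw [hτ₀]
    simp only [σ₀, σ₁, Algebra.TensorProduct.lift_tmul, map_one, one_mul]
    rfl
  · let τ₁ : RQ ⊗[R] C →ₐ[RQ] T := Algebra.TensorProduct.lift (Algebra.ofId RQ T) τ (fun _ _ => Commute.all _ _)
    let τ₂ : T ⊗[RQ] (RQ ⊗[R] C) →ₐ[T] T :=
      Algebra.TensorProduct.lift (Algebra.ofId T T) τ₁ (fun _ _ => Commute.all _ _)
    have heq : τ₂ = τ₀ := by
      refine Hensel.algHom_eq_of_unramified (J := I) (E := T ⊗[RQ] (RQ ⊗[R] C)) HenselianRing.jac τ₂ τ₀ fun x => ?_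
      rw [← Ideal.Quotient.mk_eq_mk_iff_sub_mem, hτ₀]
      induction x using TensorProduct.induction_on with
      | zero => simp
      | tmul t b =>
        induction b using TensorProduct.induction_on with
        | zero => simp
        | tmul r c =>
          simp only [τ₂, τ₁, σ₀, σ₁, Algebra.TensorProduct.lift_tmul, map_mul, Algebra.ofId_apply]
          rw [show Ideal.Quotient.mk I (τ c) = σ c from hτ c]
          rfl
        | add y w hy hw => simp only [TensorProduct.tmul_add, map_add, hy, hw]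
      | add y w hy hw => simp only [map_add, hy, hw]
    ext c
    show τ c = τ₀ ((1 : T) ⊗ₜ ((1 : RQ) ⊗ₜ c))
    rw [← heq]
    simp only [τ₂, τ₁, Algebra.TensorProduct.lift_tmul, map_one, one_mul]
    rfl

end Groth.Agent.TauTriv
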