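import Groth.Agent.TauTriv.Split
import Groth.Agent.TauTriv.Lift
import Groth.Agent.TauTriv.Power

/-!
# An algebra good in codimension one and split on the zero locus is finite étale
-/

set_option autoImplicit false
set_option linter.style.haveILetI false
set_option backward.isDefEq.respectTransparency false
set_option synthInstance.maxHeartbeats 400000
set_option maxHeartbeats 4000000

universe u

open scoped TensorProduct
open IsLocalRing

-- the coefficientwise algebra structures on power series are not the ones used here
attribute [-instance] MvPowerSeries.instAlgebra MvPowerSeries.instModule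

namespace Groth.Agent.TauTriv

/-- Scalar extensions of a residually bijective family of sections are bijective. -/
theorem bijective_pi_of_residue {R C : Type u} [CommRing R] [CommRing C] [Algebra R C]
    (L k : Type u) [CommRing L] [IsLocalRing L] [Field k] [Algebra R L] [Algebra R k] [Algebra L k]
    [IsScalarTower R L k] (hres : Function.Surjective (algebraMap L k))
    [Module.Finite L (L ⊗[R] C)] [Module.Free L (L ⊗[R] C)]
    {ι : Type u} [Fintype ι] (χ : ι → (C →ₐ[R] L))
    (hk : Function.Bijective (Pi.algHom k (fun _ : ι => k) fun i => Algebra.TensorProduct.lift (Algebra.ofId k k)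
      ((IsScalarTower.toAlgHom R L k).comp (χ i)) (fun _ _ => Commute.all _ _) : k ⊗[R] C →ₐ[k] (ι → k))) :
    Function.Bijective (Pi.algHom L (fun _ : ι => L) fun i => Algebra.TensorProduct.lift (Algebra.ofId L L)
      (χ i) (fun _ _ => Commute.all _ _) : L ⊗[R] C →ₐ[L] (ι → L)) := by
  classical
  set Φ : L ⊗[R] C →ₐ[L] (ι → L) := Pi.algHom L (fun _ : ι => L) fun i =>
    Algebra.TensorProduct.lift (Algebra.ofId L L) (χ i) (fun _ _ => Commute.all _ _)
  let Φk : k ⊗[R] C →ₐ[k] (ι → k) := Pi.algHom k (fun _ : ι => k) fun i => Algebra.TensorProduct.lift (Algebra.ofId k k)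
      ((IsScalarTower.toAlgHom R L k).comp (χ i)) (fun _ _ => Commute.all _ _)
  have hcomm : ∀ (y : L ⊗[R] C) i, algebraMap L k (Φ y i) =
      Φk (Algebra.TensorProduct.map (IsScalarTower.toAlgHom R L k) (AlgHom.id R C) y) i := by
    intro y i
    induction y using TensorProduct.induction_on with
    | zero => simp
    | tmul l c =>
      show algebraMap L k (Algebra.TensorProduct.lift (Algebra.ofId L L) (χ i) (fun _ _ => Commute.all _ _) (l ⊗ₜ c)) =
        Algebra.TensorProduct.lift (Algebra.ofId k k) ((IsScalarTower.toAlgHom R L k).comp (χ i))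
          (fun _ _ => Commute.all _ _) (algebraMap L k l ⊗ₜ c)
      rw [Algebra.TensorProduct.lift_tmul, Algebra.TensorProduct.lift_tmul, map_mul]
      rfl
    | add y z hy hz => simp only [map_add, Pi.add_apply, hy, hz]
  have hmap : Function.Surjective (Algebra.TensorProduct.map (IsScalarTower.toAlgHom R L k) (AlgHom.id R C)) :=
    TensorProduct.map_surjective (g := (IsScalarTower.toAlgHom R L k).toLinearMap) (g' := LinearMap.id)
      hres Function.surjective_id
  have hker : RingHom.ker (algebraMap L k) ≤ maximalIdeal L := le_maximalIdeal (RingHom.ker_ne_top _)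
  have hsurj : Function.Surjective Φ := by
    have h : (⊤ : Submodule L (ι → L)) ≤ LinearMap.range Φ.toLinearMap := by
      refine Submodule.le_of_le_smul_of_le_jacobson_bot (I := RingHom.ker (algebraMap L k)) Module.Finite.fg_top
        (hker.trans (IsLocalRing.maximalIdeal_le_jacobson _)) ?_
      intro v _
      obtain ⟨y, hy⟩ := hk.2 (fun i => algebraMap L k (v i))
      obtain ⟨y', rfl⟩ := hmap y
      have h1 : v - Φ y' ∈ RingHom.ker (algebraMap L k) • (⊤ : Submodule L (ι → L)) := by
        rw [← Finset.univ_sum_single (v - Φ y')]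
        refine Submodule.sum_mem _ fun i _ => ?_
        have h2 : Pi.single i ((v - Φ y') i) = (v - Φ y') i • (Pi.single i 1 : ι → L) := by
          rw [← Pi.single_smul, smul_eq_mul, mul_one]
        rw [h2]
        refine Submodule.smul_mem_smul ?_ trivial
        rw [RingHom.mem_ker, Pi.sub_apply, map_sub, hcomm, sub_eq_zero]
        exact (congrFun hy i).symm
      rw [← sub_add_cancel v (Φ y'), add_comm]
      exact Submodule.add_mem_sup ⟨y', rfl⟩ h1
    exact fun v => h trivial
  refine ⟨?_, hsurj⟩
  haveI : Nontrivial L := inferInstance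
  have hrank : Module.finrank L (L ⊗[R] C) = Fintype.card ι := by
    have h1 : Module.finrank k (k ⊗[L] (L ⊗[R] C)) = Module.finrank L (L ⊗[R] C) := Module.finrank_baseChange
    rw [← h1, ((Algebra.TensorProduct.cancelBaseChange R L k k C).trans
      (AlgEquiv.ofBijective Φk hk)).toLinearEquiv.finrank_eq, Module.finrank_pi]
  obtain ⟨e⟩ : Nonempty ((ι → L) ≃ₗ[L] L ⊗[R] C) := ⟨LinearEquiv.ofFinrankEq _ _ (by rw [Module.finrank_pi, hrank])⟩
  have h3 : Function.Injective (e.toLinearMap ∘ₗ Φ.toLinearMap) :=
    OrzechProperty.injective_of_surjective_endomorphism _ (e.surjective.comp hsurj)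
  exact fun a b hab => h3 (congrArg e hab)

variable {R : Type u} [CommRing R] [IsDomain R] [IsIntegrallyClosed R] [IsNoetherianRing R]
  (K : Type u) [Field K] [Algebra R K] [IsFractionRing R K]
  (E : Type u) [CommRing E] [Algebra K E] [Algebra R E] [IsScalarTower R K E] [Algebra.Etale K E]

include K in
theorem etale_of_split_zeroLocus (A : Type u) [CommRing A] [IsDomain A] [IsIntegrallyClosed A] [IsNoetherianRing A]
    [Algebra R (PowerSeries A)] [Module.FaithfullyFlat R (PowerSeries A)]
    (KA : Type u) [Field KA] [Algebra A KA] [IsFractionRing A KA] [Algebra R KA]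
    (hRKA : ∀ r : R, algebraMap R KA r = algebraMap A KA (PowerSeries.constantCoeff (algebraMap R (PowerSeries A) r)))
    (hsurj : Function.Surjective fun r : R => PowerSeries.constantCoeff (algebraMap R (PowerSeries A) r))
    (hgood : ∀ (Q : Ideal R) [Q.IsPrime], Q.height ≤ 1 → Good E Q)
    (hgoodp : ∀ (p : Ideal A) [p.IsPrime], p.height ≤ 1 →
      Good E (p.comap ((PowerSeries.constantCoeff).comp (algebraMap R (PowerSeries A)))))
    {ι : Type u} [Fintype ι] (θ : KA ⊗[R] integralClosure R E ≃ₐ[KA] (ι → KA)) :
    Algebra.Etale R (integralClosure R E) ∧ Module.Finite R (integralClosure R E) := by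
  classical
  let C := integralClosure R E
  let S := PowerSeries A
  let L := PowerSeries KA
  let gA : R →+* A := (PowerSeries.constantCoeff).comp (algebraMap R S)
  letI : Algebra R A := gA.toAlgebra
  haveI : IsScalarTower R A KA := IsScalarTower.of_algebraMap_eq hRKA
  -- the sections over `A`
  let χ0 : ι → (C →ₐ[R] KA) := fun i =>
    ((((Pi.evalAlgHom KA (fun _ : ι => KA) i).comp θ.toAlgHom).restrictScalars R)).comp
      Algebra.TensorProduct.includeRight
  have hχ0 : ∀ i c, χ0 i c = θ (1 ⊗ₜ c) i := fun i c => rfl
  have hval : ∀ i c, ∃ a : A, algebraMap A KA a = χ0 i c := fun i c => by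
    refine IsIntegrallyClosed.isIntegral_iff.1 ?_
    have h1 : IsIntegral R c := (isIntegral_algHom_iff C.val Subtype.val_injective).1 c.2
    exact (h1.map (χ0 i)).tower_top
  choose a ha using hval
  -- generic lifts
  letI algL : Algebra R L := ((PowerSeries.map (algebraMap A KA)).comp (algebraMap R S)).toAlgebra
  letI : Algebra S L := (PowerSeries.map (algebraMap A KA)).toAlgebra
  haveI : IsScalarTower R S L := IsScalarTower.of_algebraMap_eq fun _ => rfl
  let IL : Ideal L := Ideal.span {PowerSeries.X}
  haveI : HenselianRing L IL := inferInstance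
  have hX : ∀ {B : Type u} [CommRing B] (f g : PowerSeries B),
      Ideal.Quotient.mk (Ideal.span {PowerSeries.X}) f = Ideal.Quotient.mk (Ideal.span {PowerSeries.X}) g ↔
        PowerSeries.constantCoeff f = PowerSeries.constantCoeff g := fun f g => by
    rw [Ideal.Quotient.mk_eq_mk_iff_sub_mem, Ideal.mem_span_singleton, PowerSeries.X_dvd_iff, map_sub, sub_eq_zero]
  let Q₀ : Ideal R := (⊥ : Ideal A).comap gA
  have hQ₀ : Good E Q₀ := hgoodp ⊥ (by simp)
  have hQL : ∀ s : R, s ∉ Q₀ → IsUnit (algebraMap R L s) := fun s hs => by
    rw [PowerSeries.isUnit_iff_constantCoeff]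
    show IsUnit (PowerSeries.constantCoeff (PowerSeries.map (algebraMap A KA) (algebraMap R S s)))
    rw [← PowerSeries.coeff_zero_eq_constantCoeff_apply, PowerSeries.coeff_map,
      PowerSeries.coeff_zero_eq_constantCoeff_apply]
    exact isUnit_iff_ne_zero.2 ((map_ne_zero_iff _ (IsFractionRing.injective A KA)).2 fun h0 => hs h0)
  let σL : ι → (C →ₐ[R] L ⧸ IL) := fun i =>
    { ((Ideal.Quotient.mk IL).comp (PowerSeries.C : KA →+* L)).comp (χ0 i).toRingHom with
      commutes' := fun r => by
        show Ideal.Quotient.mk IL (PowerSeries.C (χ0 i (algebraMap R C r))) = Ideal.Quotient.mk IL (algebraMap R L r)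
        rw [hX, PowerSeries.constantCoeff_C, show χ0 i (algebraMap R C r) = algebraMap R KA r from (χ0 i).commutes r,
          hRKA]
        show _ = PowerSeries.constantCoeff (PowerSeries.map (algebraMap A KA) (algebraMap R S r))
        rw [← PowerSeries.coeff_zero_eq_constantCoeff_apply (PowerSeries.map _ _), PowerSeries.coeff_map,
          PowerSeries.coeff_zero_eq_constantCoeff_apply] }
  choose χL hχL hχLu using fun i => existsUnique_lift hQ₀ L IL hQL (σL i)
  have hχL0 : ∀ i c, PowerSeries.constantCoeff (χL i c) = χ0 i c := fun i c => by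
    have := (hX (χL i c) (PowerSeries.C (χ0 i c))).1 (hχL i c)
    rwa [PowerSeries.constantCoeff_C] at this
  -- coefficients lie in every localization at height at most one
  have hloc : ∀ i c n, ∀ p : Ideal A, p.IsPrime → p.height ≤ 1 → ∃ s ∉ p, ∃ b : A,
      algebraMap A KA s * PowerSeries.coeff n (χL i c) = algebraMap A KA b := by
    intro i c n p _ hp
    let Ap := Localization.AtPrime p
    let g : Ap →+* KA := IsLocalization.lift (M := p.primeCompl) (g := algebraMap A KA) fun y =>
      IsUnit.mk0 _ ((map_ne_zero_iff _ (IsFractionRing.injective A KA)).2 fun h0 => y.2 (h0 ▸ p.zero_mem))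
    have hg : ∀ x, g (algebraMap A Ap x) = algebraMap A KA x := fun x => IsLocalization.lift_eq _ x
    let T := PowerSeries Ap
    letI : Algebra R T := ((PowerSeries.map (algebraMap A Ap)).comp (algebraMap R S)).toAlgebra
    let IT : Ideal T := Ideal.span {PowerSeries.X}
    haveI : HenselianRing T IT := inferInstance
    have hQT : ∀ s : R, s ∉ p.comap gA → IsUnit (algebraMap R T s) := fun s hs => by
      rw [PowerSeries.isUnit_iff_constantCoeff]
      show IsUnit (PowerSeries.constantCoeff (PowerSeries.map (algebraMap A Ap) (algebraMap R S s)))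
      rw [← PowerSeries.coeff_zero_eq_constantCoeff_apply, PowerSeries.coeff_map,
        PowerSeries.coeff_zero_eq_constantCoeff_apply]
      exact IsLocalization.map_units Ap (⟨_, hs⟩ : p.primeCompl)
    let σT : C →ₐ[R] T ⧸ IT :=
      { toFun := fun x => Ideal.Quotient.mk IT (PowerSeries.C (algebraMap A Ap (a i x)))
        map_one' := by
          rw [show a i 1 = 1 from IsFractionRing.injective A KA (by rw [ha, map_one, map_one]), map_one, map_one,
            map_one]
        map_mul' := fun x y => by
          rw [show a i (x * y) = a i x * a i y from IsFractionRing.injective A KA (by rw [ha, map_mul, map_mul, ha, ha]),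
            map_mul, map_mul, map_mul]
        map_zero' := by
          rw [show a i 0 = 0 from IsFractionRing.injective A KA (by rw [ha, map_zero, map_zero]), map_zero, map_zero,
            map_zero]
        map_add' := fun x y => by
          rw [show a i (x + y) = a i x + a i y from IsFractionRing.injective A KA (by rw [ha, map_add, map_add, ha, ha]),
            map_add, map_add, map_add]
        commutes' := fun r => by
          show Ideal.Quotient.mk IT _ = Ideal.Quotient.mk IT (algebraMap R T r)
          rw [hX, PowerSeries.constantCoeff_C,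
            show a i (algebraMap R C r) = gA r from IsFractionRing.injective A KA (by
              rw [ha, show χ0 i (algebraMap R C r) = algebraMap R KA r from (χ0 i).commutes r, hRKA]
              rfl)]
          show _ = PowerSeries.constantCoeff (PowerSeries.map (algebraMap A Ap) (algebraMap R S r))
          rw [← PowerSeries.coeff_zero_eq_constantCoeff_apply (PowerSeries.map _ _), PowerSeries.coeff_map,
            PowerSeries.coeff_zero_eq_constantCoeff_apply]
          rfl }
    obtain ⟨τ, hτ, -⟩ := existsUnique_lift (hgoodp p hp) T IT hQT σT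
    let m : T →ₐ[R] L :=
      { PowerSeries.map g with
        commutes' := fun r => by
          show PowerSeries.map g (PowerSeries.map (algebraMap A Ap) (algebraMap R S r)) =
            PowerSeries.map (algebraMap A KA) (algebraMap R S r)
          ext k
          simp only [PowerSeries.coeff_map, hg] }
    have hmτ : m.comp τ = χL i := hχLu i (m.comp τ) fun x => by
      show Ideal.Quotient.mk IL (PowerSeries.map g (τ x)) = Ideal.Quotient.mk IL (PowerSeries.C (χ0 i x))
      rw [hX, PowerSeries.constantCoeff_C, ← PowerSeries.coeff_zero_eq_constantCoeff_apply, PowerSeries.coeff_map,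
        PowerSeries.coeff_zero_eq_constantCoeff_apply,
        (hX _ (PowerSeries.C (algebraMap A Ap (a i x)))).1 (hτ x), PowerSeries.constantCoeff_C, hg, ha]
    obtain ⟨⟨b, s⟩, hbs⟩ := IsLocalization.surj p.primeCompl (PowerSeries.coeff n (τ c))
    refine ⟨s, s.2, b, ?_⟩
    rw [← hmτ]
    show algebraMap A KA s * PowerSeries.coeff n (PowerSeries.map g (τ c)) = _
    rw [PowerSeries.coeff_map, ← hg, ← hg, ← map_mul, mul_comm, hbs]
  have hrange : ∀ i c, χL i c ∈ (IsScalarTower.toAlgHom R S L).range := fun i c => by
    choose b hb using fun n => exists_eq_of_forall_height_le_one (K := KA) (PowerSeries.coeff n (χL i c)) (hloc i c n)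
    refine ⟨PowerSeries.mk b, ?_⟩
    show PowerSeries.map (algebraMap A KA) (PowerSeries.mk b) = χL i c
    ext n
    rw [PowerSeries.coeff_map, PowerSeries.coeff_mk, hb]
  have hSL : Function.Injective (algebraMap S L) := fun f g h => by
    ext n
    refine IsFractionRing.injective A KA ?_
    rw [← PowerSeries.coeff_map, ← PowerSeries.coeff_map]
    exact congrArg (PowerSeries.coeff n) h
  let χ : ι → (C →ₐ[R] S) := fun i =>
    (AlgEquiv.ofInjective (IsScalarTower.toAlgHom R S L) hSL).symm.toAlgHom.comp ((χL i).codRestrict _ (hrange i))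
  have hχ : ∀ i, (IsScalarTower.toAlgHom R S L).comp (χ i) = χL i := fun i => AlgHom.ext fun c =>
    congrArg Subtype.val ((AlgEquiv.ofInjective (IsScalarTower.toAlgHom R S L) hSL).apply_symm_apply
      ((χL i).codRestrict _ (hrange i) c))
  refine etale_of_split K E hgood S L hSL Q₀ hQ₀ hQL χ ?_
  simp only [hχ]
  -- bijectivity over `L`
  letI : Algebra L KA := (PowerSeries.constantCoeff : L →+* KA).toAlgebra
  haveI : IsScalarTower R L KA := IsScalarTower.of_algebraMap_eq fun r => by
    show _ = PowerSeries.constantCoeff (PowerSeries.map (algebraMap A KA) (algebraMap R S r))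
    rw [← PowerSeries.coeff_zero_eq_constantCoeff_apply (PowerSeries.map _ _), PowerSeries.coeff_map,
      PowerSeries.coeff_zero_eq_constantCoeff_apply, hRKA]
  obtain ⟨het, hfin⟩ := hQ₀
  let RQ := Localization.AtPrime Q₀
  let gL : RQ →+* L := IsLocalization.lift (M := Q₀.primeCompl) (g := algebraMap R L) fun y => hQL y y.2
  letI : Algebra RQ L := gL.toAlgebra
  haveI : IsScalarTower R RQ L := IsScalarTower.of_algebraMap_eq fun x => (IsLocalization.lift_eq _ x).symm
  let ec := Algebra.TensorProduct.cancelBaseChange R RQ L L C
  haveI : Module.Finite L (L ⊗[R] C) := Module.Finite.equiv ec.toLinearEquiv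
  haveI : Module.Flat L (L ⊗[R] C) := Module.Flat.of_linearEquiv ec.symm.toLinearEquiv
  haveI : IsNoetherianRing L := inferInstance
  haveI : Module.FinitePresentation L (L ⊗[R] C) := Module.finitePresentation_of_finite _ _
  haveI : Module.Free L (L ⊗[R] C) := Module.free_of_flat_of_isLocalRing
  refine bijective_pi_of_residue L KA (fun x => ⟨PowerSeries.C x, PowerSeries.constantCoeff_C x⟩) χL ?_
  convert θ.bijective using 1
  funext z
  induction z using TensorProduct.induction_on with
  | zero => simp
  | tmul t c =>
    funext i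
    show Algebra.TensorProduct.lift (Algebra.ofId KA KA) ((IsScalarTower.toAlgHom R L KA).comp (χL i))
      (fun _ _ => Commute.all _ _) (t ⊗ₜ c) = θ (t ⊗ₜ c) i
    rw [Algebra.TensorProduct.lift_tmul, show t ⊗ₜ[R] c = t • ((1 : KA) ⊗ₜ[R] c) by
      rw [TensorProduct.smul_tmul', smul_eq_mul, mul_one], map_smul, Pi.smul_apply, smul_eq_mul]
    show t * PowerSeries.constantCoeff (χL i c) = t * θ (1 ⊗ₜ c) i
    rw [hχL0]; rfl
  | add y w hy hw => simp only [map_add, hy, hw]

end Groth.Agent.TauTriv
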