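import Groth.Agent.TauTriv.Main
import Mathlib

/-!
# The henselised affine line over a strictly henselian normal local ring
-/

set_option autoImplicit false
set_option linter.style.haveILetI false
set_option backward.isDefEq.respectTransparency false
set_option synthInstance.maxHeartbeats 400000
set_option maxHeartbeats 2000000

universe u

open IsLocalRing Polynomial
open scoped TensorProduct

attribute [-instance] MvPowerSeries.instAlgebra MvPowerSeries.instModule

namespace Groth.Agent.TauTriv

variable (A : Type u) [CommRing A] [IsDomain A] [IsIntegrallyClosed A] [IsNoetherianRing A] [HenselianLocalRing A]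
  [IsSepClosed (ResidueField A)] (P : Ideal A[X]) [P.IsMaximal]
  (hP : P = (IsLocalRing.maximalIdeal A).map (Polynomial.C : A →+* A[X]) ⊔ Ideal.span {Polynomial.X})
  (R : Type u) [CommRing R] [IsLocalRing R] [Algebra (Localization.AtPrime P) R]
  [IsLocalHom (algebraMap (Localization.AtPrime P) R)] [_root_.Hensel.IsHenselization (Localization.AtPrime P) R]

include hP in
/-- The structure facts and the map to power series. -/
theorem exists_toPowerSeries :
    IsDomain R ∧ IsIntegrallyClosed R ∧ IsNoetherianRing R ∧ HenselianLocalRing R ∧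
      IsSepClosed (ResidueField R) ∧
      ∃ g : R →+* PowerSeries A, (letI := g.toAlgebra; Module.FaithfullyFlat R (PowerSeries A)) ∧
        g (algebraMap (Localization.AtPrime P) R (algebraMap A[X] (Localization.AtPrime P) X)) = PowerSeries.X ∧
        ∀ a : A, PowerSeries.constantCoeff
          (g (algebraMap (Localization.AtPrime P) R (algebraMap A[X] (Localization.AtPrime P) (Polynomial.C a)))) = a := by
  let Loc := Localization.AtPrime P
  let S := PowerSeries A
  haveI := henselianLocalRing_powerSeries A
  let c : A[X] →+* S := Polynomial.coeToPowerSeries.ringHom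
  have hc0 : ∀ q : A[X], PowerSeries.constantCoeff (c q) = q.coeff 0 := fun q => by
    show PowerSeries.constantCoeff (q : PowerSeries A) = q.coeff 0
    rw [← PowerSeries.coeff_zero_eq_constantCoeff_apply, Polynomial.coeff_coe]
  have hmem : ∀ q : A[X], q.coeff 0 ∈ maximalIdeal A → q ∈ P := fun q hq => by
    rw [hP, ← Polynomial.divX_mul_X_add q]
    exact Ideal.add_mem _ (Ideal.mem_sup_right (Ideal.mem_span_singleton'.2 ⟨_, rfl⟩))
      (Ideal.mem_sup_left (Ideal.mem_map_of_mem _ hq))
  have hmem' : ∀ q ∈ P, q.coeff 0 ∈ maximalIdeal A := by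
    intro q hq
    rw [hP] at hq
    refine (sup_le ?_ ?_ : _ ≤ (maximalIdeal A).comap Polynomial.constantCoeff) hq
    · exact Ideal.map_le_iff_le_comap.2 fun a ha => by simpa using ha
    · rw [Ideal.span_singleton_le_iff_mem]; simp
  have hunit : ∀ y : P.primeCompl, IsUnit (c y) := fun y => by
    rw [PowerSeries.isUnit_iff_constantCoeff, hc0]
    exact notMem_maximalIdeal.1 fun h => y.2 (hmem _ h)
  let ρ : Loc →+* S := IsLocalization.lift (M := P.primeCompl) (g := c) hunit
  have hρ : ∀ q, ρ (algebraMap A[X] Loc q) = c q := fun q => IsLocalization.lift_eq hunit q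
  haveI hρl : IsLocalHom ρ := by
    refine ⟨fun x hx => ?_⟩
    obtain ⟨⟨q, s⟩, rfl⟩ := IsLocalization.exists_mk'_eq P.primeCompl x |> fun ⟨q, s, h⟩ => (⟨(q, s), h⟩ :
      ∃ qs : A[X] × P.primeCompl, IsLocalization.mk' Loc qs.1 qs.2 = x)
    rw [IsLocalization.AtPrime.isUnit_mk'_iff Loc P]
    intro hq
    have h1 : IsUnit (c q) := by
      rw [← hρ, ← IsLocalization.mk'_spec Loc q s, map_mul]
      exact hx.mul (by rw [hρ]; exact hunit s)
    rw [PowerSeries.isUnit_iff_constantCoeff, hc0] at h1
    exact hmem' q hq h1
  -- the residue field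
  let ev : Loc →+* A := (PowerSeries.constantCoeff).comp ρ
  haveI : IsLocalHom ev := ⟨fun x hx => hρl.map_nonunit x (PowerSeries.isUnit_iff_constantCoeff.2 hx)⟩
  have hev : ∀ a, ev (algebraMap A[X] Loc (C a)) = a := fun a => by
    show PowerSeries.constantCoeff (ρ _) = a
    rw [hρ, hc0, coeff_C_zero]
  have hres : Function.Bijective (ResidueField.map ev) := ⟨RingHom.injective _, fun x => by
    obtain ⟨a, rfl⟩ := residue_surjective x
    exact ⟨residue Loc (algebraMap A[X] Loc (C a)), by rw [ResidueField.map_residue, hev]⟩⟩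
  haveI : IsSepClosed (ResidueField Loc) :=
    Hensel.isSepClosed_of_ringEquiv (RingEquiv.ofBijective _ hres).symm
  haveI := isStrictHenselization_of_isSepClosed Loc R
  haveI : HenselianLocalRing R := _root_.Hensel.IsHenselization.henselian (R := Loc)
  haveI hsep : IsSepClosed (ResidueField R) :=
    (_root_.Hensel.IsStrictHenselization.isSepClosure (R := Loc) (S := R)).sep_closed
  haveI : IsDomain Loc := IsLocalization.isDomain_localization P.primeCompl_le_nonZeroDivisors
  haveI : IsIntegrallyClosed Loc := isIntegrallyClosed_of_isLocalization Loc P.primeCompl P.primeCompl_le_nonZeroDivisors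
  obtain ⟨hd, hic⟩ := (Hensel.henselization_normal_iff Loc R).1 ⟨inferInstance, inferInstance⟩
  haveI : IsNoetherianRing Loc := IsLocalization.isNoetherianRing P.primeCompl Loc inferInstance
  have hnoe : IsNoetherianRing R := (Hensel.henselization_isNoetherianRing_iff Loc R).1 inferInstance
  obtain ⟨g, hg, -⟩ := _root_.Hensel.IsHenselization.universal (R := Loc) (S := R) S ρ hρl
  have hg' : ∀ x, g (algebraMap Loc R x) = ρ x := fun x => RingHom.congr_fun hg x
  refine ⟨hd, hic, hnoe, inferInstance, hsep, g, ?_, ?_, fun a => ?_⟩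
  · letI : Algebra R S := g.toAlgebra
    letI : Algebra Loc S := ρ.toAlgebra
    letI : Algebra A[X] S := c.toAlgebra
    haveI : IsScalarTower Loc R S := IsScalarTower.of_algebraMap_eq fun x => (hg' x).symm
    haveI : IsScalarTower A[X] Loc S := IsScalarTower.of_algebraMap_eq fun q => (hρ q).symm
    haveI : Module.Flat A[X] S := RingHom.flat_algebraMap_iff.1 (flat_toPowerSeries A)
    haveI : Module.Flat Loc S := (Module.flat_iff_of_isLocalization Loc P.primeCompl S).2 inferInstance
    haveI := WeakEt.weaklyEtale_strictHenselization Loc R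
    haveI := flat_of_weaklyEtale_cancel Loc R S
    haveI : IsLocalHom (algebraMap R S) := by
      refine ⟨fun x hx => by_contra fun hnx => ?_⟩
      have h1 : x ∈ (maximalIdeal Loc).map (algebraMap Loc R) := by
        rw [Hensel.henselization_map_maximalIdeal]; exact hnx
      have h2 : g x ∈ maximalIdeal S := by
        have h3 := Ideal.mem_map_of_mem g h1
        rw [Ideal.map_map, hg] at h3
        exact (Ideal.map_le_iff_le_comap.2 fun m hm => map_nonunit ρ m hm : _ ≤ maximalIdeal S) h3
      exact h2 hx
    exact Module.FaithfullyFlat.of_flat_of_isLocalHom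
  · rw [hg', hρ]
    exact Polynomial.coe_X
  · rw [hg', hρ, hc0, coeff_C_zero]

omit [IsDomain A] [IsIntegrallyClosed A] [IsNoetherianRing A] [HenselianLocalRing A] [IsSepClosed (ResidueField A)] in
/-- Finite étale algebras over strictly henselian local rings split. -/
theorem exists_algEquiv_pi (T : Type u) [CommRing T] [HenselianLocalRing T] [IsSepClosed (ResidueField T)]
    (C : Type u) [CommRing C] [Algebra T C] [Algebra.Etale T C] [Module.Finite T C] :
    ∃ (I : Type u) (_ : Fintype I), Nonempty (C ≃ₐ[T] (I → T)) := by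
  classical
  let k := ResidueField T
  obtain ⟨I, hI, Ai, _, _, e, hsep⟩ := (Algebra.FormallyEtale.iff_exists_algEquiv_prod k (k ⊗[T] C)).1 inferInstance
  haveI := Fintype.ofFinite I
  have hb : ∀ i, Function.Bijective (algebraMap k (Ai i)) := fun i => by
    haveI := hsep i
    exact ⟨RingHom.injective _, IsSepClosed.algebraMap_surjective k (Ai i)⟩
  let e' : k ⊗[T] C ≃ₐ[k] (I → k) :=
    e.trans (AlgEquiv.piCongrRight fun i => (AlgEquiv.ofBijective (Algebra.ofId k (Ai i)) (hb i)).symm)
  let σ : I → (C →ₐ[T] T ⧸ maximalIdeal T) := fun i =>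
    (((Pi.evalAlgHom k (fun _ : I => k) i).comp e'.toAlgHom).restrictScalars T).comp Algebra.TensorProduct.includeRight
  choose τ hτ hτu using fun i => Hensel.existsUnique_algHom_lift (I := maximalIdeal T) (σ i)
  haveI : Module.Flat T (T ⊗[T] C) := inferInstance
  haveI : Module.Finite T (T ⊗[T] C) := inferInstance
  haveI : Module.FinitePresentation T C := Module.FinitePresentation.of_finite_of_finitePresentation T C
  haveI : Module.Free T C := Module.free_of_flat_of_isLocalRing
  have h := bijective_pi_of_residue (R := T) (C := C) T k residue_surjective τ (by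
    convert e'.bijective using 1
    funext z
    induction z using TensorProduct.induction_on with
    | zero => simp
    | tmul t c =>
      funext i
      show Algebra.TensorProduct.lift (Algebra.ofId k k) ((IsScalarTower.toAlgHom T T k).comp (τ i))
        (fun _ _ => Commute.all _ _) (t ⊗ₜ c) = e' (t ⊗ₜ c) i
      rw [Algebra.TensorProduct.lift_tmul, show t ⊗ₜ[T] c = t • ((1 : k) ⊗ₜ[T] c) by
        rw [TensorProduct.smul_tmul', smul_eq_mul, mul_one], map_smul, Pi.smul_apply, smul_eq_mul]
      show t * residue T (τ i c) = t * e' (1 ⊗ₜ c) i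
      exact congrArg (t * ·) (hτ i c)
    | add y w hy hw => simp only [map_add, hy, hw])
  exact ⟨I, inferInstance, ⟨(Algebra.TensorProduct.lid T C).symm.trans (AlgEquiv.ofBijective _ h)⟩⟩

end Groth.Agent.TauTriv
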