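import Groth.Agent.TauTriv.Model
import Groth.Agent.TauTriv.Ring
import Groth.Agent.S0245
import Groth.Prelude.Def_EtBase

/-!
# Covers trivial on the zero locus of the coordinate are trivial
-/

set_option autoImplicit false
set_option linter.style.haveILetI false
set_option backward.isDefEq.respectTransparency false
set_option synthInstance.maxHeartbeats 400000
set_option maxHeartbeats 2000000

universe u

open CategoryTheory CategoryTheory.Limits AlgebraicGeometry
open scoped TensorProduct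

attribute [-instance] MvPowerSeries.instAlgebra MvPowerSeries.instModule

namespace Groth.Agent.TauTriv

/-- The trivial cover. -/
theorem exists_trivial_fet {R : Type u} [CommRing R] (U : (Spec (CommRingCat.of R)).Opens) (n : ℕ) :
    FEt.prop (Limits.Sigma.desc fun _ : Fin n => 𝟙 (U : Scheme.{u})) := by
  haveI : Algebra.Etale R (ULift.{u} (Fin n) → R) := inferInstance
  obtain ⟨a, ha⟩ := exists_trivial_model (X := Spec (CommRingCat.of R)) n R (𝟙 _)
  haveI : IsIso a := ha.isIso_fst_of_isIso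
  have h₁ : FEt.prop (Limits.Sigma.desc fun _ : Fin n => 𝟙 (Spec (CommRingCat.of R))) := by
    have h2 : FEt.prop (Spec.map (CommRingCat.ofHom (algebraMap R (ULift.{u} (Fin n) → R)))) :=
      ⟨(IsFinite.SpecMap_iff _).2 (RingHom.finite_algebraMap.2 inferInstance),
        (HasRingHomProperty.Spec_iff (P := @Etale)).2 (RingHom.etale_algebraMap.2 inferInstance)⟩
    have h3 : Spec.map (CommRingCat.ofHom (algebraMap R (ULift.{u} (Fin n) → R))) =
        a ≫ Limits.Sigma.desc fun _ : Fin n => 𝟙 _ := by rw [ha.w, Category.comp_id]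
    rw [h3, MorphismProperty.cancel_left_of_respectsIso (P := FEt.prop)] at h2
    exact h2
  obtain ⟨q, hq⟩ := ShSplit.exists_isPullback_sigma U.ι (ULift.{u} (Fin n))
  let r : ∀ (Z : Scheme.{u}), (∐ fun _ : ULift.{u} (Fin n) => Z) ≅ ∐ fun _ : Fin n => Z := fun Z =>
    Limits.Sigma.reindex Equiv.ulift (fun _ : Fin n => Z)
  have hr : ∀ Z, (r Z).hom ≫ (Limits.Sigma.desc fun _ : Fin n => 𝟙 Z) = Limits.Sigma.desc fun _ => 𝟙 Z := fun Z =>
    Limits.Sigma.hom_ext _ _ fun i => by
      rw [Limits.Sigma.ι_desc, ← Category.assoc]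
      exact (congrArg (· ≫ (Limits.Sigma.desc fun _ : Fin n => 𝟙 Z))
        (Limits.Sigma.ι_reindex_hom Equiv.ulift (fun _ : Fin n => Z) i)).trans (Limits.Sigma.ι_desc _ _)
  have hq' : IsPullback ((r _).inv ≫ q ≫ (r _).hom) (Limits.Sigma.desc fun _ : Fin n => 𝟙 (U : Scheme.{u}))
      (Limits.Sigma.desc fun _ : Fin n => 𝟙 (Spec (CommRingCat.of R))) U.ι :=
    hq.of_iso (r _) (r _) (Iso.refl _) (Iso.refl _) (by simp) (by simp [hr]) (by simp [hr]) (by simp)
  exact MorphismProperty.of_isPullback hq' h₁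

open Polynomial in
theorem exists_iso (A : Type u) [CommRing A] [IsDomain A] [IsIntegrallyClosed A] [IsNoetherianRing A] [IsLocalRing A]
    (hA : EtCoh.IsStrictlyHenselianLocalRing A) (P : Ideal A[X]) [P.IsMaximal]
    (hP : P = (IsLocalRing.maximalIdeal A).map (Polynomial.C : A →+* A[X]) ⊔ Ideal.span {Polynomial.X})
    (R : Type u) [CommRing R] [IsLocalRing R] [Algebra (Localization.AtPrime P) R]
    [IsLocalHom (algebraMap (Localization.AtPrime P) R)] [Hensel.IsHenselization (Localization.AtPrime P) R]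
    (π : Spec (CommRingCat.of R) ⟶ Spec (CommRingCat.of A))
    (hπ : π = Spec.map (CommRingCat.ofHom ((algebraMap (Localization.AtPrime P) R).comp
        ((algebraMap A[X] (Localization.AtPrime P)).comp Polynomial.C))))
    (τ : R) (hτ : τ = algebraMap (Localization.AtPrime P) R (algebraMap A[X] (Localization.AtPrime P) Polynomial.X))
    (U : (Spec (CommRingCat.of A)).Opens)
    (hU : ∀ p : PrimeSpectrum A, p ∉ U → (2 : WithBot ℕ∞) ≤ ringKrullDim (Localization.AtPrime p.asIdeal))
    (W : FEt.Cat (↑(π ⁻¹ᵁ U) : Scheme.{u}))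
    (hW : ∃ (n : ℕ) (e : ((FEt.restrict ((Spec.map (CommRingCat.ofHom (Ideal.Quotient.mk (Ideal.span {τ})))).resLE
          (π ⁻¹ᵁ U) ((Spec.map (CommRingCat.ofHom (Ideal.Quotient.mk (Ideal.span {τ})))) ⁻¹ᵁ (π ⁻¹ᵁ U))
          le_rfl)).obj W).left ≅
        ∐ fun _ : Fin n => (↑((Spec.map (CommRingCat.ofHom (Ideal.Quotient.mk (Ideal.span {τ})))) ⁻¹ᵁ (π ⁻¹ᵁ U)) : Scheme.{u})),
      e.hom ≫ Sigma.desc (fun _ => 𝟙 _) =
        ((FEt.restrict ((Spec.map (CommRingCat.ofHom (Ideal.Quotient.mk (Ideal.span {τ})))).resLE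
          (π ⁻¹ᵁ U) ((Spec.map (CommRingCat.ofHom (Ideal.Quotient.mk (Ideal.span {τ})))) ⁻¹ᵁ (π ⁻¹ᵁ U))
          le_rfl)).obj W).hom) :
    ∃ (n : ℕ) (e : W.left ≅ ∐ fun _ : Fin n => (↑(π ⁻¹ᵁ U) : Scheme.{u})),
      e.hom ≫ Sigma.desc (fun _ => 𝟙 _) = W.hom := by
  classical
  obtain ⟨hh, hs⟩ := hA
  haveI := hh
  haveI : IsSepClosed (IsLocalRing.ResidueField A) := hs
  obtain ⟨hd, hic, hnoe, hhens, hsep, g, hff, hgτ, hgC⟩ := exists_toPowerSeries A P hP R
  haveI := hd
  haveI := hic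
  haveI := hnoe
  haveI := hhens
  haveI := hsep
  haveI : IsFinite W.hom := W.prop.1
  haveI : Etale W.hom := W.prop.2
  let S := PowerSeries A
  letI : Algebra R S := g.toAlgebra
  haveI : Module.FaithfullyFlat R S := hff
  let f : A →+* R := (algebraMap (Localization.AtPrime P) R).comp
    ((algebraMap A[X] (Localization.AtPrime P)).comp Polynomial.C)
  let gA : R →+* A := (PowerSeries.constantCoeff).comp (algebraMap R S)
  have hfg : ∀ a, gA (f a) = a := hgC
  let U' : (Spec (CommRingCat.of R)).Opens := π ⁻¹ᵁ U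
  -- membership in the open
  have hmemA : ∀ p : PrimeSpectrum A, p.asIdeal.height ≤ 1 → p ∈ U := fun p hp => by
    by_contra hpU
    have h2 := hU p hpU
    rw [IsLocalization.AtPrime.ringKrullDim_eq_height p.asIdeal (Localization.AtPrime p.asIdeal)] at h2
    have h3 : (2 : ℕ∞) ≤ 1 := (WithBot.coe_le_coe.1 (le_trans h2 (WithBot.coe_le_coe.2 hp)))
    exact absurd h3 (by norm_num)
  have hmemp : ∀ (p : Ideal A) [p.IsPrime], p.height ≤ 1 → (⟨p.comap gA, inferInstance⟩ : PrimeSpectrum R) ∈ U' := by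
    intro p _ hp
    show π (⟨p.comap gA, inferInstance⟩ : PrimeSpectrum R) ∈ U
    rw [hπ]
    have h1 : Ideal.comap f (p.comap gA) = p := by
      rw [Ideal.comap_comap, show gA.comp f = RingHom.id A from RingHom.ext hfg, Ideal.comap_id]
    have h2 : (Spec.map (CommRingCat.ofHom f)) (⟨p.comap gA, inferInstance⟩ : PrimeSpectrum R) =
        (⟨p, inferInstance⟩ : PrimeSpectrum A) := PrimeSpectrum.ext h1
    rw [h2]
    exact hmemA ⟨p, inferInstance⟩ hp
  have hflat : Module.Flat A[X] (Localization.AtPrime P) := IsLocalization.flat _ P.primeCompl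
  have hmemR : ∀ (Q : Ideal R) [Q.IsPrime], Q.height ≤ 1 → (⟨Q, inferInstance⟩ : PrimeSpectrum R) ∈ U' := by
    intro Q _ hQ
    show π (⟨Q, inferInstance⟩ : PrimeSpectrum R) ∈ U
    rw [hπ]
    refine hmemA (⟨Q.comap f, inferInstance⟩ : PrimeSpectrum A) ?_
    letI : Algebra A R := f.toAlgebra
    haveI : Module.Flat A R := RingHom.flat_algebraMap_iff.1 (by
      haveI := Hensel.henselization_flat (Localization.AtPrime P) R
      exact RingHom.Flat.comp (RingHom.Flat.comp (RingHom.flat_algebraMap_iff.2 (inferInstanceAs (Module.Flat A A[X])))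
        (RingHom.flat_algebraMap_iff.2 hflat)) (RingHom.flat_algebraMap_iff.2 inferInstance))
    haveI : Q.LiesOver (Q.comap f) := ⟨rfl⟩
    exact le_trans (le_of_le_of_eq le_self_add (Ideal.height_eq_height_add_of_liesOver_of_hasGoingDown (Q.comap f) Q).symm) hQ
  -- the generic point
  haveI : Nonempty (U' : Scheme.{u}) := ⟨⟨_, hmemR ⊥ (by simp)⟩⟩
  haveI : IsIntegral (U' : Scheme.{u}) := isIntegral_of_isOpenImmersion U'.ι
  let X' : Scheme.{u} := U'
  let K : Type u := X'.functionField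
  let η := X'.fromSpecStalk (genericPoint X')
  let y : PrimeSpectrum R := U'.ι (genericPoint X')
  have hy : y.asIdeal = ⊥ := by
    have h1 : U'.ι (genericPoint X') = genericPoint (Spec (CommRingCat.of R)) :=
      genericPoint_eq_of_isOpenImmersion U'.ι
    show (U'.ι (genericPoint X') : PrimeSpectrum R).asIdeal = ⊥
    rw [h1, genericPoint_eq_bot_of_affine]
    rfl
  let φ : CommRingCat.of R ⟶ X'.presheaf.stalk (genericPoint X') :=
    StructureSheaf.toStalk R _ ≫ U'.ι.stalkMap (genericPoint X')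
  letI : Algebra R K := φ.hom.toAlgebra
  have hη : Spec.map (CommRingCat.ofHom (algebraMap R K)) = η ≫ U'.ι := by
    rw [show CommRingCat.ofHom (algebraMap R K) = φ from rfl, Spec.map_comp]
    exact (congrArg (_ ≫ ·) (Spec.fromSpecStalk_eq' _ _).symm).trans (Scheme.SpecMap_stalkMap_fromSpecStalk U'.ι)
  haveI : IsFractionRing R K := by
    let M := (Spec (CommRingCat.of R)).presheaf.stalk y
    letI : Algebra R M := (StructureSheaf.toStalk R y).hom.toAlgebra
    haveI h1 : IsLocalization.AtPrime M y.asIdeal := StructureSheaf.IsLocalization.to_stalk R y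
    haveI h2 : IsFractionRing R M := by
      have e : y.asIdeal.primeCompl = nonZeroDivisors R := by
        ext x
        rw [mem_nonZeroDivisors_iff_ne_zero, Ideal.mem_primeCompl_iff, hy, Submodule.mem_bot]
      show IsLocalization (nonZeroDivisors R) M
      rw [← e]
      exact h1
    let e : M ≃ₐ[R] K := AlgEquiv.ofBijective
      ({ (U'.ι.stalkMap (genericPoint X')).hom with commutes' := fun r => rfl } : M →ₐ[R] K)
      ((ConcreteCategory.isIso_iff_bijective (U'.ι.stalkMap (genericPoint X'))).1 inferInstance)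
    exact IsLocalization.isLocalization_of_algEquiv (nonZeroDivisors R) e
  obtain ⟨E, _, _, aE, hetE, hfinE, sqE⟩ := exists_model W.hom K η
  letI : Algebra R E := ((algebraMap K E).comp (algebraMap R K)).toAlgebra
  haveI : IsScalarTower R K E := IsScalarTower.of_algebraMap_eq fun _ => rfl
  -- good primes
  have lift : ∀ (T : Type u) [CommRing T] [Algebra R T],
      (∀ p : PrimeSpectrum T, (⟨p.asIdeal.comap (algebraMap R T), inferInstance⟩ : PrimeSpectrum R) ∈ U') →
      ∃ t : Spec (CommRingCat.of T) ⟶ X', t ≫ U'.ι = Spec.map (CommRingCat.ofHom (algebraMap R T)) := by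
    intro T _ _ h
    exact ⟨IsOpenImmersion.lift U'.ι _ (by rw [Scheme.Opens.range_ι]; rintro _ ⟨p, rfl⟩; exact h p),
      IsOpenImmersion.lift_fac _ _ _⟩
  have hmodel : ∀ (Q : Ideal R) [Q.IsPrime], (⟨Q, inferInstance⟩ : PrimeSpectrum R) ∈ U' →
      ∃ (t : Spec (CommRingCat.of (Localization.AtPrime Q)) ⟶ X'),
        t ≫ U'.ι = Spec.map (CommRingCat.ofHom (algebraMap R (Localization.AtPrime Q))) := by
    intro Q _ hQ
    refine lift _ fun p => ?_
    refine (PrimeSpectrum.le_iff_specializes (R := R) _ _).1 ?_ |>.mem_open U'.2 hQ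
    show p.asIdeal.comap _ ≤ Q
    refine le_trans (Ideal.comap_mono (IsLocalRing.le_maximalIdeal p.2.ne_top)) ?_
    exact (IsLocalization.AtPrime.under_maximalIdeal (Localization.AtPrime Q) Q).le
  have good : ∀ (Q : Ideal R) [Q.IsPrime], (⟨Q, inferInstance⟩ : PrimeSpectrum R) ∈ U' → Good E Q := by
    intro Q _ hQ
    obtain ⟨t, ht⟩ := hmodel Q hQ
    obtain ⟨B, _, _, aB, hetB, hfinB, sqB⟩ := exists_model W.hom (Localization.AtPrime Q) t
    let gT : Localization.AtPrime Q →+* K := IsLocalization.lift (M := Q.primeCompl) (g := algebraMap R K) fun z =>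
      IsUnit.mk0 _ ((map_ne_zero_iff _ (IsFractionRing.injective R K)).2 fun h0 => z.2 (h0 ▸ Q.zero_mem))
    letI : Algebra (Localization.AtPrime Q) K := gT.toAlgebra
    haveI : IsScalarTower R (Localization.AtPrime Q) K :=
      IsScalarTower.of_algebraMap_eq fun x => (IsLocalization.lift_eq _ x).symm
    obtain ⟨a', sq'⟩ := exists_baseChange_model sqB K
    have hte : Spec.map (CommRingCat.ofHom (algebraMap (Localization.AtPrime Q) K)) ≫ t = η := by
      rw [← cancel_mono U'.ι, Category.assoc, ht, ← hη, ← Spec.map_comp]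
      exact congrArg Spec.map (CommRingCat.hom_ext (IsScalarTower.algebraMap_eq R (Localization.AtPrime Q) K).symm)
    rw [hte] at sq'
    obtain ⟨e⟩ := nonempty_algEquiv_of_isPullback sq' sqE
    exact good_of_model K E Q B e
  -- the splitting on the zero locus
  let KA := FractionRing A
  letI : Algebra R KA := ((algebraMap A KA).comp gA).toAlgebra
  let Q₀ : Ideal R := (⊥ : Ideal A).comap gA
  have hQ₀ : (⟨Q₀, inferInstance⟩ : PrimeSpectrum R) ∈ U' := hmemp ⊥ (by simp)
  obtain ⟨t₀, ht₀⟩ := hmodel Q₀ hQ₀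
  obtain ⟨B₀, _, _, aB₀, hetB₀, hfinB₀, sqB₀⟩ := exists_model W.hom (Localization.AtPrime Q₀) t₀
  obtain ⟨hgood₀et, hgood₀fin⟩ := good Q₀ hQ₀
  let gL : Localization.AtPrime Q₀ →+* KA := IsLocalization.lift (M := Q₀.primeCompl) (g := algebraMap R KA) fun z =>
      IsUnit.mk0 _ ((map_ne_zero_iff _ (IsFractionRing.injective A KA)).2 fun h0 => z.2 h0)
  letI : Algebra (Localization.AtPrime Q₀) KA := gL.toAlgebra
  haveI : IsScalarTower R (Localization.AtPrime Q₀) KA :=
    IsScalarTower.of_algebraMap_eq fun x => (IsLocalization.lift_eq _ x).symm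
  let T₀ := Localization.AtPrime Q₀
  let gK : T₀ →+* K := IsLocalization.lift (M := Q₀.primeCompl) (g := algebraMap R K) fun z =>
    IsUnit.mk0 _ ((map_ne_zero_iff _ (IsFractionRing.injective R K)).2 fun h0 => z.2 (h0 ▸ Q₀.zero_mem))
  letI : Algebra T₀ K := gK.toAlgebra
  haveI : IsScalarTower R T₀ K := IsScalarTower.of_algebraMap_eq fun x => (IsLocalization.lift_eq _ x).symm
  obtain ⟨aC, sqC⟩ : ∃ aC, IsPullback aC
      (Spec.map (CommRingCat.ofHom (algebraMap T₀ (T₀ ⊗[R] integralClosure R E)))) W.hom t₀ := by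
    obtain ⟨e⟩ : Nonempty ((T₀ ⊗[R] integralClosure R E) ≃ₐ[T₀] B₀) := by
      obtain ⟨a', sq'⟩ := exists_baseChange_model sqB₀ K
      have hte : Spec.map (CommRingCat.ofHom (algebraMap T₀ K)) ≫ t₀ = η := by
        rw [← cancel_mono U'.ι, Category.assoc, ht₀, ← hη, ← Spec.map_comp]
        exact congrArg Spec.map (CommRingCat.hom_ext (IsScalarTower.algebraMap_eq R T₀ K).symm)
      rw [hte] at sq'
      obtain ⟨e⟩ := nonempty_algEquiv_of_isPullback sq' sqE
      exact exists_equiv_of_model K E Q₀ B₀ e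
    let ee := Scheme.Spec.mapIso (e.toRingEquiv.toCommRingCatIso.op)
    refine ⟨ee.inv ≫ aB₀, sqB₀.of_iso ee (Iso.refl _) (Iso.refl _) (Iso.refl _) (by simp) ?_ (by simp) (by simp)⟩
    simp only [Iso.refl_hom, Category.comp_id]
    show Spec.map (CommRingCat.ofHom (algebraMap T₀ B₀)) = Spec.map (CommRingCat.ofHom e.toRingEquiv.toRingHom) ≫
      Spec.map (CommRingCat.ofHom (algebraMap T₀ (T₀ ⊗[R] integralClosure R E)))
    rw [← Spec.map_comp]
    exact congrArg Spec.map (CommRingCat.hom_ext (RingHom.ext fun x => (e.commutes x).symm))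
  obtain ⟨n, e₀, he₀⟩ := hW
  let ιτ := Spec.map (CommRingCat.ofHom (Ideal.Quotient.mk (Ideal.span {τ})))
  let V₀ := ιτ ⁻¹ᵁ U'
  let r := ιτ.resLE U' V₀ le_rfl
  obtain ⟨α₀, hα₀⟩ : ∃ α₀ : Spec (CommRingCat.of KA) ⟶ (V₀ : Scheme.{u}),
      α₀ ≫ r = Spec.map (CommRingCat.ofHom (algebraMap T₀ KA)) ≫ t₀ := by
    let β : R ⧸ Ideal.span {τ} →+* KA := Ideal.Quotient.lift _ (algebraMap R KA) (fun x hx => by
      obtain ⟨z, rfl⟩ := Ideal.mem_span_singleton'.1 hx
      show algebraMap A KA (gA (z * τ)) = 0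
      rw [map_mul, show gA τ = 0 by
        show PowerSeries.constantCoeff (g τ) = 0
        rw [hτ, hgτ, PowerSeries.constantCoeff_X], mul_zero, map_zero])
    have hβ : Spec.map (CommRingCat.ofHom β) ≫ ιτ =
        (Spec.map (CommRingCat.ofHom (algebraMap T₀ KA)) ≫ t₀) ≫ U'.ι := by
      rw [Category.assoc, ht₀, ← Spec.map_comp, ← Spec.map_comp]
      exact congrArg Spec.map (CommRingCat.hom_ext (RingHom.ext fun x => IsScalarTower.algebraMap_apply R T₀ KA x))
    refine ⟨IsOpenImmersion.lift V₀.ι (Spec.map (CommRingCat.ofHom β)) ?_, ?_⟩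
    · rw [Scheme.Opens.range_ι]
      rintro _ ⟨z, rfl⟩
      show ιτ (Spec.map (CommRingCat.ofHom β) z) ∈ U'
      rw [← Scheme.Hom.comp_apply, hβ, Scheme.Hom.comp_apply]
      exact Subtype.coe_prop _
    · rw [← cancel_mono U'.ι, Category.assoc, Scheme.Hom.resLE_comp_ι, ← Category.assoc, IsOpenImmersion.lift_fac, hβ]
  obtain ⟨θ⟩ : Nonempty ((KA ⊗[T₀] (T₀ ⊗[R] integralClosure R E)) ≃ₐ[KA] (ULift.{u} (Fin n) → KA)) := by
    obtain ⟨a₁, sq₁⟩ := exists_baseChange_model sqC KA
    obtain ⟨a₂, sq₂⟩ := exists_trivial_model (X := (V₀ : Scheme.{u})) n KA α₀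
    rw [← hα₀] at sq₁
    have p₁ : IsPullback (e₀.inv ≫ pullback.fst W.hom r) (Limits.Sigma.desc fun _ : Fin n => 𝟙 _) W.hom r :=
      (IsPullback.of_hasPullback W.hom r).of_iso e₀ (Iso.refl _) (Iso.refl _) (Iso.refl _)
        (by simp only [Iso.refl_hom, Category.comp_id]; exact (e₀.hom_inv_id_assoc _).symm)
        (by simp only [Iso.refl_hom, Category.comp_id]; exact he₀.symm) (by simp) (by simp)
    exact nonempty_algEquiv_of_isPullback sq₁ (sq₂.paste_horiz p₁)
  obtain ⟨het, hfin⟩ := etale_of_split_zeroLocus K E A KA (fun _ => rfl)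
    (fun a => ⟨f a, hfg a⟩) (fun Q _ hQ => good Q (hmemR Q hQ)) (fun p _ hp => good _ (hmemp p hp))
    ((Algebra.TensorProduct.cancelBaseChange R T₀ KA KA (integralClosure R E)).symm.trans θ)
  obtain ⟨I, _, ⟨ψ⟩⟩ := exists_algEquiv_pi R (integralClosure R E)
  let d := Fintype.card I
  let ψd : integralClosure R E ≃ₐ[R] (ULift.{u} (Fin d) → R) :=
    ψ.trans (AlgEquiv.piCongrLeft R (fun _ : ULift.{u} (Fin d) => R) ((Fintype.equivFin I).trans Equiv.ulift.symm))
  let eE : E ≃ₐ[K] (ULift.{u} (Fin d) → K) :=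
    ((AlgEquiv.ofBijective (evT E K) (bijective_evT K E)).symm.trans
      (Algebra.TensorProduct.congr (AlgEquiv.refl : K ≃ₐ[K] K) ψd)).trans (Algebra.TensorProduct.piScalarRight R K K _)
  obtain ⟨aT, sqT⟩ := exists_trivial_model (X := X') d K η
  let Y : FEt.Cat X' := MorphismProperty.Over.mk ⊤ (Limits.Sigma.desc fun _ : Fin d => 𝟙 X') (exists_trivial_fet U' d)
  let se := Scheme.Spec.mapIso (eE.toRingEquiv.toCommRingCatIso.op)
  have sqT' : IsPullback (se.inv ≫ aT) (Spec.map (CommRingCat.ofHom (algebraMap K E)))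
      (Limits.Sigma.desc fun _ : Fin d => 𝟙 X') η := by
    refine sqT.of_iso se (Iso.refl _) (Iso.refl _) (Iso.refl _) (by simp) ?_ (by simp) (by simp)
    simp only [Iso.refl_hom, Category.comp_id]
    show Spec.map (CommRingCat.ofHom (algebraMap K (ULift.{u} (Fin d) → K))) =
      Spec.map (CommRingCat.ofHom eE.toRingEquiv.toRingHom) ≫ Spec.map (CommRingCat.ofHom (algebraMap K E))
    rw [← Spec.map_comp]
    exact congrArg Spec.map (CommRingCat.hom_ext (RingHom.ext fun x => (eE.commutes x).symm))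
  let e₁ := (IsPullback.of_hasPullback W.hom η).isoIsPullback _ _ sqE
  let e₂ := sqT'.isoIsPullback _ _ (IsPullback.of_hasPullback (Limits.Sigma.desc fun _ : Fin d => 𝟙 X') η)
  let iη : (FEt.restrict η).obj W ≅ (FEt.restrict η).obj Y := MorphismProperty.Over.isoMk (e₁ ≪≫ e₂) (by
    show (e₁ ≪≫ e₂).hom ≫ pullback.snd _ _ = pullback.snd W.hom η
    rw [Iso.trans_hom, Category.assoc]
    exact (congrArg (e₁.hom ≫ ·) (IsPullback.isoIsPullback_hom_snd _ _ sqT' (IsPullback.of_hasPullback _ η))).trans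
      (IsPullback.isoIsPullback_hom_snd _ _ (IsPullback.of_hasPullback W.hom η) sqE))
  have hN : Pi1.IsNormalScheme X' := fun x => by
    let z : PrimeSpectrum R := U'.ι x
    let M := (Spec (CommRingCat.of R)).presheaf.stalk z
    letI : Algebra R M := (StructureSheaf.toStalk R z).hom.toAlgebra
    haveI h1 : IsLocalization.AtPrime M z.asIdeal := StructureSheaf.IsLocalization.to_stalk R z
    haveI : IsDomain M := IsLocalization.isDomain_of_le_nonZeroDivisors M z.asIdeal.primeCompl_le_nonZeroDivisors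
    haveI : IsIntegrallyClosed M :=
      isIntegrallyClosed_of_isLocalization M z.asIdeal.primeCompl z.asIdeal.primeCompl_le_nonZeroDivisors
    let e : M ≃+* X'.presheaf.stalk x := RingEquiv.ofBijective (U'.ι.stalkMap x).hom
      ((ConcreteCategory.isIso_iff_bijective (U'.ι.stalkMap x)).1 inferInstance)
    exact ⟨e.symm.toMulEquiv.isDomain M, IsIntegrallyClosed.of_equiv e⟩
  obtain ⟨hfull, hfaith⟩ := S0245.result hN
  haveI := hfull
  haveI := hfaith
  let i := (FEt.restrict η).preimageIso iη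
  exact ⟨d, ⟨i.hom.left, i.inv.left,
    congrArg (fun k => k.left) i.hom_inv_id, congrArg (fun k => k.left) i.inv_hom_id⟩, MorphismProperty.Over.w i.hom⟩

end Groth.Agent.TauTriv
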