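import Groth.Agent.TauTriv.Trace
import Mathlib.RingTheory.Etale.Descent
import Mathlib.RingTheory.Finiteness.Descent

/-!
# Étaleness of an integral closure split after a faithfully flat base change
-/

set_option autoImplicit false
set_option linter.style.haveILetI false
set_option backward.isDefEq.respectTransparency false
set_option synthInstance.maxHeartbeats 400000
set_option maxHeartbeats 2000000

universe u

open scoped TensorProduct

namespace Groth.Agent.TauTriv

variable {R : Type u} [CommRing R] [IsDomain R] [IsIntegrallyClosed R] [IsNoetherianRing R]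
  (K : Type u) [Field K] [Algebra R K] [IsFractionRing R K]
  (E : Type u) [CommRing E] [Algebra K E] [Algebra R E] [IsScalarTower R K E] [Algebra.Etale K E]

include K in
theorem finite_integralClosure : Module.Finite R (integralClosure R E) := by
  classical
  haveI : Module.Finite K E := Algebra.FormallyUnramified.finite_of_free K E
  obtain ⟨n, s, hs⟩ := Module.Finite.exists_fin (R := K) (M := E)
  choose a ha c hc using fun i => exists_smul_mem (R := R) K E (s i)
  let D : integralClosure R E →ₗ[R] (Fin n → R) :=
    LinearMap.pi fun i => tr K E ∘ₗ LinearMap.mulRight R (c i)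
  have hD : Function.Injective D := by
    refine (injective_iff_map_eq_zero D).2 fun x hx => Subtype.ext ?_
    refine (QFDualLib.traceForm_bijective K E).1 (?_ : Algebra.traceForm K E x = Algebra.traceForm K E 0)
    rw [map_zero]
    refine LinearMap.ext_on hs ?_
    rintro _ ⟨i, rfl⟩
    have h1 := congrArg (algebraMap R K) (congrFun hx i)
    rw [show D x i = tr K E (x * c i) from rfl, tr_spec, Pi.zero_apply, map_zero] at h1
    have h2 : ((x * c i : integralClosure R E) : E) = algebraMap R K (a i) • ((x : E) * s i) := by
      show (x : E) * (c i : E) = _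
      rw [← hc, Algebra.smul_def, ← IsScalarTower.algebraMap_apply]; ring
    rw [h2, map_smul, smul_eq_mul, mul_eq_zero] at h1
    rw [Algebra.traceForm_apply, LinearMap.zero_apply]
    exact h1.resolve_left ((map_ne_zero_iff _ (IsFractionRing.injective R K)).2 (ha i))
  exact Module.Finite.of_injective D hD

include K in
theorem etale_of_split (hgood : ∀ (Q : Ideal R) [Q.IsPrime], Q.height ≤ 1 → Good E Q)
    (S : Type u) [CommRing S] [Algebra R S] [Module.FaithfullyFlat R S]
    (L : Type u) [CommRing L] [Algebra R L] [Algebra S L] [IsScalarTower R S L]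
    (hSL : Function.Injective (algebraMap S L))
    (Q₀ : Ideal R) [Q₀.IsPrime] (hQ₀ : Good E Q₀) (hQL : ∀ s : R, s ∉ Q₀ → IsUnit (algebraMap R L s))
    {ι : Type u} [Fintype ι] (χ : ι → (integralClosure R E →ₐ[R] S))
    (hχ : Function.Bijective (Pi.algHom L (fun _ : ι => L) fun i => Algebra.TensorProduct.lift (Algebra.ofId L L)
      ((IsScalarTower.toAlgHom R S L).comp (χ i)) (fun _ _ => Commute.all _ _) :
        L ⊗[R] integralClosure R E →ₐ[L] (ι → L))) :
    Algebra.Etale R (integralClosure R E) ∧ Module.Finite R (integralClosure R E) := by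
  classical
  haveI : Module.Finite K E := Algebra.FormallyUnramified.finite_of_free K E
  haveI : Module.Finite R (integralClosure R E) := finite_integralClosure K E
  let C := integralClosure R E
  let ΦL : L ⊗[R] C →ₐ[L] (ι → L) := Pi.algHom L (fun _ : ι => L) fun i => Algebra.TensorProduct.lift (Algebra.ofId L L)
      ((IsScalarTower.toAlgHom R S L).comp (χ i)) (fun _ _ => Commute.all _ _)
  have hΦL : ∀ (l : L) (c : C) i, ΦL (l ⊗ₜ c) i = l * algebraMap S L (χ i c) := fun l c i => by
    show Algebra.TensorProduct.lift (Algebra.ofId L L) ((IsScalarTower.toAlgHom R S L).comp (χ i))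
      (fun _ _ => Commute.all _ _) (l ⊗ₜ c) = _
    rw [Algebra.TensorProduct.lift_tmul]; rfl
  -- the trace is the sum over the sections
  have htr : ∀ x : C, algebraMap R S (tr K E x) = ∑ i, χ i x := by
    intro x
    apply hSL
    rw [← IsScalarTower.algebraMap_apply, map_sum]
    obtain ⟨het, hfin⟩ := hQ₀
    let T := Localization.AtPrime Q₀
    let g : T →+* K := IsLocalization.lift (M := Q₀.primeCompl) (g := algebraMap R K) fun y =>
      IsUnit.mk0 _ ((map_ne_zero_iff _ (IsFractionRing.injective R K)).2 fun h0 => y.2 (h0 ▸ Q₀.zero_mem))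
    letI : Algebra T K := g.toAlgebra
    haveI : IsScalarTower R T K := IsScalarTower.of_algebraMap_eq fun x => (IsLocalization.lift_eq _ x).symm
    let gL : T →+* L := IsLocalization.lift (M := Q₀.primeCompl) (g := algebraMap R L) fun y => hQL y y.2
    letI : Algebra T L := gL.toAlgebra
    haveI : IsScalarTower R T L := IsScalarTower.of_algebraMap_eq fun x => (IsLocalization.lift_eq _ x).symm
    haveI : Module.FinitePresentation T (T ⊗[R] C) := Module.finitePresentation_of_finite _ _
    haveI : Module.Free T (T ⊗[R] C) := Module.free_of_flat_of_isLocalRing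
    set d := Algebra.trace T (T ⊗[R] C) (1 ⊗ₜ x) with hd
    have hK : algebraMap T K d = algebraMap R K (tr K E x) := by
      rw [hd, ← trace_tmul_one (S := T) (T := K), tr_spec]
      rw [← Algebra.trace_eq_of_algEquiv (A := K) (B := K ⊗[T] (T ⊗[R] C)) (C := E)
        ((Algebra.TensorProduct.cancelBaseChange R T K K C).trans (AlgEquiv.ofBijective (evT E K) (bijective_evT K E)))
        (1 ⊗ₜ[T] (1 ⊗ₜ[R] x))]
      congr 1
      show evT E K (Algebra.TensorProduct.cancelBaseChange R T K K C (1 ⊗ₜ (1 ⊗ₜ x))) = _
      rw [Algebra.TensorProduct.cancelBaseChange_tmul, one_smul]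
      exact (evT_tmul E K 1 x).trans (by rw [map_one, one_mul])
    have hginj : Function.Injective (algebraMap T K) := by
      haveI : IsFractionRing T K := IsFractionRing.isFractionRing_of_isDomain_of_isLocalization Q₀.primeCompl T K
      exact IsFractionRing.injective T K
    rw [IsScalarTower.algebraMap_apply R T K] at hK
    rw [IsScalarTower.algebraMap_apply R T L, ← hginj hK, hd, ← trace_tmul_one (S := T) (T := L)]
    rw [← Algebra.trace_eq_of_algEquiv (A := L) (B := L ⊗[T] (T ⊗[R] C)) (C := ι → L)
      ((Algebra.TensorProduct.cancelBaseChange R T L L C).trans (AlgEquiv.ofBijective ΦL hχ))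
      (1 ⊗ₜ[T] (1 ⊗ₜ[R] x)), trace_pi_eq_sum]
    refine Finset.sum_congr rfl fun i _ => ?_
    show ΦL (Algebra.TensorProduct.cancelBaseChange R T L L C (1 ⊗ₜ (1 ⊗ₜ x))) i = _
    rw [Algebra.TensorProduct.cancelBaseChange_tmul, one_smul, hΦL, one_mul]
  -- generators and relations
  obtain ⟨m, e, he⟩ := Module.Finite.exists_fin (R := R) (M := C)
  let p : (Fin m → R) →ₗ[R] C := Fintype.linearCombination R e
  obtain ⟨r, rel, hrel⟩ := Submodule.fg_iff_exists_fin_generating_family.1 (IsNoetherian.noetherian (LinearMap.ker p))
  let D : C →ₗ[R] (Fin m → R) := LinearMap.pi fun j => tr K E ∘ₗ LinearMap.mulRight R (e j)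
  let N : (Fin m → R) →ₗ[R] (Fin r → R) := LinearMap.pi fun l => Fintype.linearCombination R (rel l)
  have hN : ∀ u l, N u l = ∑ j, u j * rel l j := fun u l => by
    show Fintype.linearCombination R (rel l) u = _
    rw [Fintype.linearCombination_apply]; rfl
  have hp : ∀ v, p v = ∑ j, v j • e j := fun v => Fintype.linearCombination_apply R e v
  have hrel0 : ∀ l, p (rel l) = 0 := fun l =>
    LinearMap.mem_ker.1 (hrel ▸ Submodule.subset_span ⟨l, rfl⟩)
  have hexact : Function.Exact D N := fun u => by
    constructor
    · intro hu
      let fu : (Fin m → R) →ₗ[R] R := Fintype.linearCombination R u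
      have hker : LinearMap.ker p ≤ LinearMap.ker fu := by
        rw [← hrel, Submodule.span_le]
        rintro _ ⟨l, rfl⟩
        show fu (rel l) = 0
        have h1 : N u l = 0 := congrFun hu l
        rw [hN] at h1
        rw [Fintype.linearCombination_apply]
        exact (Finset.sum_congr rfl fun j _ => (smul_eq_mul _ _).trans (mul_comm _ _)).trans h1
      have hsurj : Function.Surjective p := by
        rw [← LinearMap.range_eq_top, Fintype.range_linearCombination, he]
      let f : C →ₗ[R] R := (LinearMap.ker p).liftQ fu hker ∘ₗ
        (LinearMap.quotKerEquivOfSurjective p hsurj).symm.toLinearMap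
      obtain ⟨z, hz⟩ := exists_tr_mul_eq K E hgood f
      refine ⟨z, funext fun j => ?_⟩
      show tr K E (z * e j) = u j
      rw [hz]
      have h2 : p (Pi.single j 1) = e j := by simp [hp, Pi.single_apply, Finset.sum_ite_eq']
      have h3 : (LinearMap.quotKerEquivOfSurjective p hsurj).symm (e j) = Submodule.Quotient.mk (Pi.single j 1) :=
        (LinearEquiv.symm_apply_eq _).2 (by rw [LinearMap.quotKerEquivOfSurjective_apply_mk, h2])
      show (LinearMap.ker p).liftQ fu hker ((LinearMap.quotKerEquivOfSurjective p hsurj).symm (e j)) = u j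
      rw [h3, Submodule.liftQ_apply, Fintype.linearCombination_apply]
      simp [Pi.single_apply, Finset.sum_ite_eq']
    · rintro ⟨z, rfl⟩
      funext l
      rw [hN, Pi.zero_apply]
      show ∑ j, tr K E (z * e j) * rel l j = 0
      have h1 : ∀ j, tr K E (z * e j) * rel l j = tr K E (z * (rel l j • e j)) := fun j => by
        rw [mul_smul_comm, map_smul, smul_eq_mul, mul_comm]
      simp only [h1]
      rw [← map_sum, ← Finset.mul_sum, ← hp, hrel0, mul_zero, map_zero]
  let G : S ⊗[R] C →ₗ[R] (Fin m → S) :=
    (TensorProduct.piScalarRight R R S (Fin m)).toLinearMap ∘ₗ D.lTensor S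
  let Φ : S ⊗[R] C →ₐ[S] (ι → S) := Pi.algHom S (fun _ : ι => S) fun i => Algebra.TensorProduct.lift (Algebra.ofId S S) (χ i)
      (fun _ _ => Commute.all _ _)
  have hΦ : ∀ (s : S) (c : C) i, Φ (s ⊗ₜ c) i = s * χ i c := fun s c i => by
    show Algebra.TensorProduct.lift (Algebra.ofId S S) (χ i) (fun _ _ => Commute.all _ _) (s ⊗ₜ c) = _
    rw [Algebra.TensorProduct.lift_tmul]; rfl
  have hG : ∀ z j, G z j = ∑ i, Φ z i * χ i (e j) := by
    intro z j
    induction z using TensorProduct.induction_on with
    | zero => simp
    | tmul s c =>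
      have h1 : G (s ⊗ₜ c) j = tr K E (c * e j) • s := by
        show TensorProduct.piScalarRight R R S (Fin m) (s ⊗ₜ D c) j = _
        simp [D]
        rfl
      rw [h1, Algebra.smul_def, htr, Finset.sum_mul]
      exact Finset.sum_congr rfl fun i _ => by rw [map_mul, hΦ]; ring
    | add y w hy hw =>
      simp only [map_add, Pi.add_apply, hy, hw, add_mul, Finset.sum_add_distrib]
  have hDinj : Function.Injective D := by
    refine (injective_iff_map_eq_zero D).2 fun x hx => Subtype.ext ?_
    refine (QFDualLib.traceForm_bijective K E).1 (?_ : Algebra.traceForm K E x = Algebra.traceForm K E 0)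
    rw [map_zero]
    refine LinearMap.ext fun y => ?_
    obtain ⟨a, ha, c, hc⟩ := exists_smul_mem (R := R) K E y
    obtain ⟨v, hv⟩ : ∃ v, p v = c := by
      rw [← LinearMap.mem_range, Fintype.range_linearCombination, he]; trivial
    have h1 : tr K E (x * c) = 0 := by
      rw [← hv, hp, Finset.mul_sum, map_sum]
      refine Finset.sum_eq_zero fun j _ => ?_
      rw [mul_smul_comm, map_smul, show tr K E (x * e j) = D x j from rfl, hx, Pi.zero_apply, smul_zero]
    have h2 := congrArg (algebraMap R K) h1
    rw [tr_spec, map_zero, show ((x * c : C) : E) = algebraMap R K a • ((x : E) * y) by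
      show (x : E) * (c : E) = _
      rw [← hc, Algebra.smul_def, ← IsScalarTower.algebraMap_apply]; ring, map_smul, smul_eq_mul, mul_eq_zero] at h2
    rw [Algebra.traceForm_apply, LinearMap.zero_apply]
    exact h2.resolve_left ((map_ne_zero_iff _ (IsFractionRing.injective R K)).2 ha)
  have hbij : Function.Bijective Φ := by
    refine ⟨(injective_iff_map_eq_zero Φ).2 fun z hz => ?_, fun v => ?_⟩
    · have h1 : G z = 0 := funext fun j => by rw [hG]; simp [hz]
      exact Module.Flat.lTensor_preserves_injective_linearMap D hDinj
        (((TensorProduct.piScalarRight R R S (Fin m)).map_eq_zero_iff.1 h1).trans (map_zero _).symm)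
    · let u : Fin m → S := fun j => ∑ i, v i * χ i (e j)
      let U₀ := (TensorProduct.piScalarRight R R S (Fin m)).symm u
      have hU : N.lTensor S U₀ = 0 := by
        refine (TensorProduct.piScalarRight R R S (Fin r)).injective ?_
        rw [map_zero]
        funext l
        have h1 : ∀ z, TensorProduct.piScalarRight R R S (Fin r) (N.lTensor S z) l =
            ∑ j, algebraMap R S (rel l j) * TensorProduct.piScalarRight R R S (Fin m) z j := by
          intro z
          induction z using TensorProduct.induction_on with
          | zero => simp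
          | tmul s w =>
            simp [hN, Finset.sum_mul, Algebra.smul_def]
            exact Finset.sum_congr rfl fun j _ => by ring
          | add y w hy hw => simp only [map_add, Pi.add_apply, hy, hw, mul_add, Finset.sum_add_distrib]
        rw [h1, LinearEquiv.apply_symm_apply, Pi.zero_apply]
        simp only [u, Finset.mul_sum]
        rw [Finset.sum_comm]
        refine Finset.sum_eq_zero fun i _ => ?_
        have h2 := congrArg (χ i) (hrel0 l)
        rw [hp, map_sum, map_zero] at h2
        simp only [map_smul, Algebra.smul_def] at h2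
        rw [← mul_zero (v i), ← h2, Finset.mul_sum]
        exact Finset.sum_congr rfl fun j _ => by rw [map_mul, AlgHom.commutes]; ring
      obtain ⟨z, hz⟩ := (Module.Flat.lTensor_exact S hexact _).1 hU
      refine ⟨z, ?_⟩
      have hzj : ∀ j, ∑ i, (Φ z i - v i) * χ i (e j) = 0 := fun j => by
        have h3 : G z j = u j := by
          show TensorProduct.piScalarRight R R S (Fin m) (D.lTensor S z) j = u j
          rw [hz, LinearEquiv.apply_symm_apply]
        simp only [sub_mul, Finset.sum_sub_distrib]
        rw [← hG, h3, sub_self]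
      let w : ι → L := fun i => algebraMap S L (Φ z i - v i)
      have hw : ∀ y, ∑ i, w i * ΦL y i = 0 := by
        intro y
        induction y using TensorProduct.induction_on with
        | zero => simp
        | tmul l c =>
          obtain ⟨t, rfl⟩ : ∃ t, p t = c := by
            rw [← LinearMap.mem_range, Fintype.range_linearCombination, he]; trivial
          have h4 : ∑ i, w i * algebraMap S L (χ i (p t)) = 0 := by
            have h6 : ∑ i, (Φ z i - v i) * χ i (p t) = 0 := by
              simp only [hp, map_sum, map_smul, Algebra.smul_def, Finset.mul_sum]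
              rw [Finset.sum_comm, Finset.sum_eq_zero fun j _ => ?_]
              rw [← mul_zero (algebraMap R S (t j)), ← hzj j, Finset.mul_sum]
              refine Finset.sum_congr rfl fun i _ => ?_
              have hc : ∀ a : R, χ i (algebraMap R C a) = algebraMap R S a := (χ i).commutes
              rw [map_mul, hc]; ring
            simp only [w, ← map_mul, ← map_sum, h6, map_zero]
          rw [← mul_zero l, ← h4, Finset.mul_sum]
          exact Finset.sum_congr rfl fun i _ => by rw [hΦL]; ring
        | add y y' hy hy' => simp only [map_add, Pi.add_apply, mul_add, Finset.sum_add_distrib, hy, hy', add_zero]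
      funext i
      refine sub_eq_zero.1 (hSL ?_)
      obtain ⟨y, hy⟩ := hχ.2 (Pi.single i 1)
      have h5 := hw y
      rw [show ΦL y = Pi.single i 1 from hy] at h5
      simpa [w, Pi.single_apply, Finset.sum_ite_eq'] using h5
  haveI : Algebra.Etale S (ι → S) := inferInstance
  haveI : Algebra.Etale S (S ⊗[R] C) := Algebra.Etale.of_equiv (AlgEquiv.ofBijective Φ hbij).symm
  exact ⟨Algebra.Etale.of_etale_tensorProduct_of_faithfullyFlat S, inferInstance⟩

end Groth.Agent.TauTriv
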