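import Groth.Agent.NormalBC.Trace
import Groth.Agent.InvGen.NormalDvd
import Groth.Agent.QFDualLib.Dedekind
import Mathlib

/-!
# Self-duality of integral closures étale in codimension one
-/

set_option autoImplicit false
set_option linter.style.haveILetI false
set_option backward.isDefEq.respectTransparency false
set_option synthInstance.maxHeartbeats 400000
set_option maxHeartbeats 2000000

universe u

open scoped TensorProduct

namespace Groth.Agent.TauTriv

/-- The trace form commutes with base change of finite free algebras. -/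
theorem trace_tmul_one {S B T : Type u} [CommRing S] [CommRing B] [Algebra S B] [Module.Free S B] [Module.Finite S B]
    [CommRing T] [Algebra S T] (x : B) :
    Algebra.trace T (T ⊗[S] B) (1 ⊗ₜ x) = algebraMap S T (Algebra.trace S B x) := by
  have h1 : Algebra.lmul T (T ⊗[S] B) (1 ⊗ₜ x) = (Algebra.lmul S B x).baseChange T := by
    refine LinearMap.restrictScalars_injective S (TensorProduct.ext' fun a b => ?_)
    simp [Algebra.TensorProduct.tmul_mul_tmul]
  rw [Algebra.trace_apply, h1, LinearMap.trace_baseChange, ← Algebra.trace_apply]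

theorem trace_pi_eq_sum {T : Type u} [CommRing T] {ι : Type*} [Fintype ι] (v : ι → T) :
    Algebra.trace T (ι → T) v = ∑ i, v i := by
  classical
  rw [Algebra.trace_eq_matrix_trace (Pi.basisFun T ι), Matrix.trace]
  refine Finset.sum_congr rfl fun i _ => ?_
  rw [Matrix.diag, Algebra.leftMulMatrix_eq_repr_mul, Pi.basisFun_repr]
  simp [Pi.basisFun_apply]

/-- An element of the fraction field lying in all localizations at primes of height at most one. -/
theorem exists_eq_of_forall_height_le_one {R : Type u} [CommRing R] [IsDomain R] [IsNoetherianRing R]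
    [IsIntegrallyClosed R] {K : Type u} [Field K] [Algebra R K] [IsFractionRing R K] (x : K)
    (h : ∀ p : Ideal R, p.IsPrime → p.height ≤ 1 → ∃ s ∉ p, ∃ r : R, algebraMap R K s * x = algebraMap R K r) :
    ∃ r : R, algebraMap R K r = x := by
  obtain ⟨⟨a, b⟩, hab⟩ := IsLocalization.surj (nonZeroDivisors R) x
  have hb : (b : R) ≠ 0 := nonZeroDivisors.ne_zero b.2
  obtain ⟨c, hc⟩ : (b : R) ∣ a := InvGen.dvd_of_forall_height_one hb fun p hp hp1 => by
    obtain ⟨s, hs, r, hr⟩ := h p hp hp1.le
    refine ⟨s, hs, r, IsFractionRing.injective R K ?_⟩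
    rw [map_mul, map_mul, ← hr]
    linear_combination -(algebraMap R K s) * hab
  refine ⟨c, mul_left_cancel₀ ((map_ne_zero_iff _ (IsFractionRing.injective R K)).2 hb) ?_⟩
  rw [← map_mul, ← hc, ← hab, mul_comm]

variable {R : Type u} [CommRing R] [IsDomain R] (K : Type u) [Field K] [Algebra R K] [IsFractionRing R K]
  (E : Type u) [CommRing E] [Algebra K E] [Algebra R E] [IsScalarTower R K E]

/-- Every element of the generic algebra has an integral multiple. -/
theorem exists_smul_mem [Module.Finite K E] (x : E) :
    ∃ a : R, a ≠ 0 ∧ ∃ c : integralClosure R E, algebraMap R E a * x = c := by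
  haveI : Algebra.IsAlgebraic R K := (IsFractionRing.comap_isAlgebraic_iff (A := R) (K := K) (C := K)).2 inferInstance
  haveI : Algebra.IsAlgebraic R E := Algebra.IsAlgebraic.trans R K E
  obtain ⟨y, hy0, hy⟩ := (Algebra.IsAlgebraic.isAlgebraic (R := R) x).exists_integral_multiple
  exact ⟨y, hy0, ⟨_, hy⟩, (Algebra.smul_def y x).symm⟩

/-- The good primes: the integral closure is finite étale over the localization. -/
structure Good (Q : Ideal R) [Q.IsPrime] : Prop where
  etale : Algebra.Etale (Localization.AtPrime Q) (Localization.AtPrime Q ⊗[R] integralClosure R E)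
  finite : Module.Finite (Localization.AtPrime Q) (Localization.AtPrime Q ⊗[R] integralClosure R E)

variable [IsIntegrallyClosed R]

/-- Trace of integral elements. -/
theorem exists_trace [Module.Finite K E] (x : integralClosure R E) :
    ∃ r : R, algebraMap R K r = Algebra.trace K E x :=
  IsIntegrallyClosed.isIntegral_iff.1 (NormalBC.isIntegral_trace_of_free x.2)

noncomputable def tr [Module.Finite K E] : integralClosure R E →ₗ[R] R where
  toFun x := (exists_trace K E x).choose
  map_add' x y := IsFractionRing.injective R K (by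
    rw [map_add, (exists_trace K E _).choose_spec, (exists_trace K E x).choose_spec,
      (exists_trace K E y).choose_spec]
    exact map_add _ _ _)
  map_smul' a x := IsFractionRing.injective R K (by
    rw [RingHom.id_apply, smul_eq_mul, map_mul, (exists_trace K E _).choose_spec, (exists_trace K E x).choose_spec]
    show Algebra.trace K E (a • (x : E)) = _
    rw [← IsScalarTower.algebraMap_smul K a (x : E), map_smul, smul_eq_mul])

theorem tr_spec [Module.Finite K E] (x : integralClosure R E) :
    algebraMap R K (tr K E x) = Algebra.trace K E x :=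
  (exists_trace K E x).choose_spec

/-- The evaluation `T ⊗ C → E` for a localization `T`. -/
noncomputable def evT (T : Type u) [CommRing T] [Algebra R T] [Algebra T E] [IsScalarTower R T E] :
    T ⊗[R] integralClosure R E →ₐ[T] E :=
  Algebra.TensorProduct.lift (Algebra.ofId T E) (integralClosure R E).val fun _ _ => Commute.all _ _

theorem evT_tmul (T : Type u) [CommRing T] [Algebra R T] [Algebra T E] [IsScalarTower R T E] (t : T)
    (c : integralClosure R E) : evT E T (t ⊗ₜ c) = algebraMap T E t * c := by
  simp [evT, Algebra.ofId_apply]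

theorem bijective_evT [Module.Finite K E] : Function.Bijective (evT E K : K ⊗[R] integralClosure R E →ₐ[K] E) := by
  haveI : Module.Flat R K := IsLocalization.flat K (nonZeroDivisors R)
  haveI : TensorProduct.CompatibleSMul R K K E := IsLocalization.tensorProduct_compatibleSMul (nonZeroDivisors R) K K E
  refine ⟨?_, fun x => ?_⟩
  · let θ : K ⊗[R] E ≃ₗ[K] E :=
      (Algebra.TensorProduct.equivOfCompatibleSMul R K K K E).symm.toLinearEquiv.trans (TensorProduct.lid K E)
    have : ⇑(evT E K : K ⊗[R] integralClosure R E →ₐ[K] E) =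
        θ ∘ (LinearMap.lTensor K (integralClosure R E).val.toLinearMap) := by
      funext z
      induction z using TensorProduct.induction_on with
      | zero => simp
      | tmul t c =>
        have h1 : (Algebra.TensorProduct.equivOfCompatibleSMul R K K K E).symm (t ⊗ₜ[R] (c : E)) = t ⊗ₜ[K] (c : E) :=
          (Algebra.TensorProduct.equivOfCompatibleSMul R K K K E).injective (by rw [AlgEquiv.apply_symm_apply]; rfl)
        simp [evT_tmul, θ, h1, Algebra.smul_def]
      | add y w hy hw => simp [hy, hw]
    rw [this]
    exact θ.injective.comp (Module.Flat.lTensor_preserves_injective_linearMap _ Subtype.val_injective)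
  · obtain ⟨a, ha, c, hc⟩ := exists_smul_mem (R := R) K E x
    refine ⟨(algebraMap R K a)⁻¹ ⊗ₜ c, ?_⟩
    rw [evT_tmul, ← hc, ← mul_assoc, IsScalarTower.algebraMap_apply R K E, ← map_mul,
      inv_mul_cancel₀ ((map_ne_zero_iff _ (IsFractionRing.injective R K)).2 ha), map_one, one_mul]

variable [IsNoetherianRing R] [Algebra.Etale K E]

/-- Self-duality of the integral closure. -/
theorem exists_tr_mul_eq [Module.Finite K E] (hgood : ∀ (Q : Ideal R) [Q.IsPrime], Q.height ≤ 1 → Good E Q)
    (f : integralClosure R E →ₗ[R] R) : ∃ z : integralClosure R E, ∀ c, tr K E (z * c) = f c := by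
  classical
  let C := integralClosure R E
  let θ : K ⊗[R] C ≃ₐ[K] E := AlgEquiv.ofBijective (evT E K) (bijective_evT K E)
  let fK : E →ₗ[K] K := (Algebra.TensorProduct.rid R K K).toLinearMap ∘ₗ f.baseChange K ∘ₗ θ.symm.toLinearMap
  have hθ : ∀ c : C, θ.symm (c : E) = 1 ⊗ₜ c := fun c => θ.injective (by
    rw [AlgEquiv.apply_symm_apply]; exact ((evT_tmul E K 1 c).trans (by rw [map_one, one_mul])).symm)
  have hfK : ∀ c : C, fK c = algebraMap R K (f c) := fun c => by
    show Algebra.TensorProduct.rid R K K (f.baseChange K (θ.symm (c : E))) = _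
    rw [hθ, LinearMap.baseChange_tmul, Algebra.TensorProduct.rid_tmul, Algebra.smul_def, mul_one]
  obtain ⟨e, he⟩ := (QFDualLib.traceForm_bijective K E).2 fK
  have he' : ∀ c : C, Algebra.trace K E (e * c) = algebraMap R K (f c) := fun c => by
    rw [← hfK, ← he]; rfl
  -- `e` is integral over every good localization
  have hloc : ∀ (Q : Ideal R) [Q.IsPrime], Q.height ≤ 1 →
      ∃ s ∉ Q, ∃ c : C, algebraMap R E s * e = c := by
    intro Q _ hQ
    obtain ⟨het, hfin⟩ := hgood Q hQ
    let T := Localization.AtPrime Q
    let g : T →+* K := IsLocalization.lift (M := Q.primeCompl) (g := algebraMap R K) fun y =>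
      IsUnit.mk0 _ ((map_ne_zero_iff _ (IsFractionRing.injective R K)).2 fun h0 => y.2 (h0 ▸ Q.zero_mem))
    letI : Algebra T K := g.toAlgebra
    haveI : IsScalarTower R T K := IsScalarTower.of_algebraMap_eq fun x => (IsLocalization.lift_eq _ x).symm
    letI : Algebra T E := ((algebraMap K E).comp (algebraMap T K)).toAlgebra
    haveI : IsScalarTower T K E := IsScalarTower.of_algebraMap_eq fun _ => rfl
    haveI : IsScalarTower R T E := IsScalarTower.of_algebraMap_eq fun x => by
      show _ = algebraMap K E (algebraMap T K (algebraMap R T x))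
      rw [← IsScalarTower.algebraMap_apply R T K, ← IsScalarTower.algebraMap_apply R K E]
    haveI : Module.FinitePresentation T (T ⊗[R] C) := Module.finitePresentation_of_finite _ _
    haveI : Module.Free T (T ⊗[R] C) := Module.free_of_flat_of_isLocalRing
    let fT : T ⊗[R] C →ₗ[T] T := (Algebra.TensorProduct.rid R T T).toLinearMap ∘ₗ f.baseChange T
    obtain ⟨b, hb⟩ := (QFDualLib.traceForm_bijective T (T ⊗[R] C)).2 fT
    have hbe : evT E T b = e := by
      refine (QFDualLib.traceForm_bijective K E).1 (?_ : Algebra.traceForm K E (evT E T b) = Algebra.traceForm K E e)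
      rw [show Algebra.traceForm K E e = fK from he]
      have key : ∀ c : C, Algebra.traceForm K E (evT E T b) (c : E) = fK c := fun c => by
        rw [hfK, Algebra.traceForm_apply]
        have h1 : algebraMap T K (Algebra.trace T (T ⊗[R] C) (b * 1 ⊗ₜ c)) = algebraMap R K (f c) := by
          have h2 := LinearMap.congr_fun hb (1 ⊗ₜ c)
          rw [Algebra.traceForm_apply] at h2
          rw [h2, IsScalarTower.algebraMap_apply R T K]
          show algebraMap T K (Algebra.TensorProduct.rid R T T (f.baseChange T (1 ⊗ₜ c))) = _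
          rw [LinearMap.baseChange_tmul, Algebra.TensorProduct.rid_tmul, Algebra.smul_def, mul_one]
        rw [← h1, ← trace_tmul_one (S := T) (T := K)]
        let φ : K ⊗[T] (T ⊗[R] C) ≃ₐ[K] E := (Algebra.TensorProduct.cancelBaseChange R T K K C).trans θ
        rw [← Algebra.trace_eq_of_algEquiv (A := K) (B := K ⊗[T] (T ⊗[R] C)) (C := E) φ (1 ⊗ₜ[T] (b * 1 ⊗ₜ[R] c))]
        congr 1
        have hφ : ∀ z : T ⊗[R] C, φ (1 ⊗ₜ z) = evT E T z := fun z => by
          induction z using TensorProduct.induction_on with
          | zero => simp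
          | tmul t c =>
            show θ (Algebra.TensorProduct.cancelBaseChange R T K K C (1 ⊗ₜ (t ⊗ₜ c))) = _
            rw [Algebra.TensorProduct.cancelBaseChange_tmul, evT_tmul]
            refine (evT_tmul E K (t • (1 : K)) c).trans ?_
            rw [Algebra.smul_def, mul_one]
            rfl
          | add y w hy hw => rw [TensorProduct.tmul_add, map_add, map_add, hy, hw]
        rw [hφ, map_mul, evT_tmul, map_one, one_mul]
      refine LinearMap.ext fun x => ?_
      obtain ⟨z, rfl⟩ := θ.surjective x
      induction z using TensorProduct.induction_on with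
      | zero => simp
      | tmul t c =>
        rw [show θ (t ⊗ₜ c) = t • (c : E) from (evT_tmul E K t c).trans (Algebra.smul_def t (c : E)).symm,
          map_smul, map_smul, key]
      | add y w hy hw => rw [map_add, map_add, map_add, hy, hw]
    obtain ⟨⟨c, s⟩, hcs⟩ := IsLocalizedModule.surj Q.primeCompl (TensorProduct.mk R T C 1) b
    refine ⟨s, s.2, c, ?_⟩
    have h3 := congrArg (evT E T) hcs
    rw [Submonoid.smul_def, TensorProduct.mk_apply, evT_tmul, map_one, one_mul] at h3
    rw [← hbe, ← h3, ← Algebra.smul_def]
    exact ((evT E T).toLinearMap.map_smul_of_tower (s : R) b).symm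
  -- hence integral
  have hint : IsIntegral R e := by
    have hK : IsIntegral K e := IsIntegral.of_finite K e
    suffices H : ∀ i, ∃ r : R, algebraMap R K r = (minpoly K e).coeff i by
      have h1 : minpoly K e ∈ Polynomial.lifts (algebraMap R K) := (Polynomial.lifts_iff_coeff_lifts _).2 H
      obtain ⟨q, hq, -, hqm⟩ := Polynomial.lifts_and_degree_eq_and_monic h1 (minpoly.monic hK)
      refine ⟨q, hqm, ?_⟩
      rw [← Polynomial.aeval_def, ← Polynomial.aeval_map_algebraMap K, hq, minpoly.aeval]
    intro i
    refine exists_eq_of_forall_height_le_one _ fun Q hQp hQ => ?_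
    obtain ⟨s, hs, c, hc⟩ := hloc Q hQ
    obtain ⟨p, hp, hpc⟩ : IsIntegral R (c : E) := c.2
    let T := Localization.AtPrime Q
    let g : T →+* K := IsLocalization.lift (M := Q.primeCompl) (g := algebraMap R K) fun y =>
      IsUnit.mk0 _ ((map_ne_zero_iff _ (IsFractionRing.injective R K)).2 fun h0 => y.2 (h0 ▸ Q.zero_mem))
    letI : Algebra T K := g.toAlgebra
    haveI : IsScalarTower R T K := IsScalarTower.of_algebraMap_eq fun x => (IsLocalization.lift_eq _ x).symm
    letI : Algebra T E := ((algebraMap K E).comp (algebraMap T K)).toAlgebra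
    haveI : IsScalarTower T K E := IsScalarTower.of_algebraMap_eq fun _ => rfl
    haveI : IsScalarTower R T E := IsScalarTower.of_algebraMap_eq fun x => by
      show _ = algebraMap K E (algebraMap T K (algebraMap R T x))
      rw [← IsScalarTower.algebraMap_apply R T K, ← IsScalarTower.algebraMap_apply R K E]
    haveI : IsIntegrallyClosed T :=
      isIntegrallyClosed_of_isLocalization T Q.primeCompl Q.primeCompl_le_nonZeroDivisors
    haveI : IsFractionRing T K := IsFractionRing.isFractionRing_of_isDomain_of_isLocalization Q.primeCompl T K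
    obtain ⟨u, hu⟩ := IsLocalization.map_units T (⟨s, hs⟩ : Q.primeCompl)
    have heT : IsIntegral T e := by
      have h4 : e = (↑u⁻¹ : T) • (c : E) := by
        rw [← hc, IsScalarTower.algebraMap_apply R T E, ← hu, ← Algebra.smul_def, smul_smul, Units.inv_mul, one_smul]
      rw [h4]
      exact IsIntegral.smul _ c.2.tower_top
    obtain ⟨pT, hpT, hpTe⟩ := heT
    have hdvd : minpoly K e ∣ pT.map (algebraMap T K) :=
      minpoly.dvd K e (by rw [Polynomial.aeval_map_algebraMap]; exact hpTe)
    obtain ⟨g', hg'⟩ := IsIntegrallyClosed.eq_map_mul_C_of_dvd K hpT hdvd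
    rw [(minpoly.monic hK).leadingCoeff, Polynomial.C_1, mul_one] at hg'
    obtain ⟨w, hw⟩ : ∃ w : T, algebraMap T K w = (minpoly K e).coeff i :=
      ⟨g'.coeff i, by rw [← hg', Polynomial.coeff_map]⟩
    obtain ⟨⟨r, s'⟩, hrs⟩ := IsLocalization.surj Q.primeCompl w
    refine ⟨s', s'.2, r, ?_⟩
    rw [← hw, IsScalarTower.algebraMap_apply R T K, ← map_mul, mul_comm, hrs,
      ← IsScalarTower.algebraMap_apply R T K]
  refine ⟨⟨e, hint⟩, fun c => IsFractionRing.injective R K ?_⟩
  rw [tr_spec, ← he']
  rfl

end Groth.Agent.TauTriv
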